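import Mathlib
import Cfsg.Prelude.Def_KGroupFacts
import Cfsg.Agent.H487.SchurMult
import Cfsg.Agent.H487.SchurPerfect

/-!
# A maximal stem extension of a perfect group covers the others (helper95, task 86)

Perfect groups are written `commutator G = ⊤`.

* `exists_cover`, `exists_cover'` : `G` perfect, `σ : Γ → G` a stem extension whose kernel has the order of the Schur multiplier: it maps
  onto every stem extension `π : P → G`, over `G`;
* `isStem` : a central extension of `G` by a perfect group is a stem extension;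
* `injective_of_trivial` : trivial multiplier, `P` perfect, `π : P → G` onto with central kernel: `π` is injective;
* `exists_cover_of_trivial` : `G` perfect with trivial multiplier, `σ : G → T` onto with central kernel, `π : P → T`
  onto with central kernel, `P` perfect: `∃ φ : G → P` onto with `π φ = σ`;
* `card_ker_dvd` : `|ker π|` divides the order of the multiplier of `T`.
-/

set_option autoImplicit false

namespace Cfsg.Agent.H95.StemCover

open Subgroup
open scoped commutatorElement

universe u v w w'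

/-- a central extension by a perfect group is a stem extension -/
theorem isStem {P : Type*} {T : Type*} [Group P] [Group T] (hP : commutator P = ⊤) {π : P →* T}
    (hs : Function.Surjective π) (hc : π.ker ≤ center P) : Cfsg.IsStemExtension π :=
  ⟨hs, hc, by rw [hP]; exact le_top⟩

/-- a stem extension of a perfect group is perfect -/
theorem perfect_of_stem {P : Type*} {T : Type*} [Group P] [Group T] (hT : commutator T = ⊤) {π : P →* T}
    (h : Cfsg.IsStemExtension π) : commutator P = ⊤ := by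
  obtain ⟨hs, -, hk⟩ := h
  rw [eq_top_iff]
  intro x _
  have h1 : π x ∈ (commutator P).map π := by
    rw [map_commutator_eq, MonoidHom.range_eq_top.2 hs]
    have : π x ∈ commutator T := by rw [hT]; exact mem_top _
    exact this
  obtain ⟨y, hy, hxy⟩ := h1
  have h2 : y⁻¹ * x ∈ π.ker := by
    rw [MonoidHom.mem_ker, map_mul, map_inv, hxy, inv_mul_cancel]
  have h3 := mul_mem hy (hk h2)
  rwa [mul_inv_cancel_left] at h3

section Fibre

variable {Γ : Type w} {P : Type w'} {G : Type u} [Group Γ] [Group P] [Group G]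

/-- the fibre product -/
def fib (σ : Γ →* G) (π : P →* G) : Subgroup (Γ × P) where
  carrier := {x | σ x.1 = π x.2}
  mul_mem' := by
    intro a b ha hb
    show σ (a.1 * b.1) = π (a.2 * b.2)
    rw [map_mul, map_mul, show σ a.1 = π a.2 from ha, show σ b.1 = π b.2 from hb]
  one_mem' := by
    show σ 1 = π 1
    rw [map_one, map_one]
  inv_mem' := by
    intro a ha
    show σ a.1⁻¹ = π a.2⁻¹
    rw [map_inv, map_inv, show σ a.1 = π a.2 from ha]

theorem mem_fib {σ : Γ →* G} {π : P →* G} {x : Γ × P} : x ∈ fib σ π ↔ σ x.1 = π x.2 := Iff.rfl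

/-- the commutator subgroup of the fibre product -/
def EE (σ : Γ →* G) (π : P →* G) : Subgroup (Γ × P) := ⁅fib σ π, fib σ π⁆

theorem EE_le {σ : Γ →* G} {π : P →* G} : EE σ π ≤ fib σ π := commutator_le_self _

variable {σ : Γ →* G} {π : P →* G}

/-- `fib = EE · ker` when `G` is perfect -/
theorem exists_of_mem_fib (hG : commutator G = ⊤) (hσ : Function.Surjective σ) (hπ : Function.Surjective π)
    {x : Γ × P} (hx : x ∈ fib σ π) : ∃ y ∈ EE σ π, ∃ z : Γ × P, σ z.1 = 1 ∧ π z.2 = 1 ∧ x = y * z := by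
  -- the map to `G`
  obtain ⟨τ, hτ⟩ : ∃ τ : fib σ π →* G, τ = (σ.comp (MonoidHom.fst Γ P)).comp (fib σ π).subtype := ⟨_, rfl⟩
  have hτs : Function.Surjective τ := by
    intro g
    obtain ⟨a, ha⟩ := hσ g
    obtain ⟨b, hb⟩ := hπ g
    exact ⟨⟨(a, b), by show σ a = π b; rw [ha, hb]⟩, by rw [hτ]; exact ha⟩
  have h1 : τ ⟨x, hx⟩ ∈ (commutator (fib σ π)).map τ := by
    rw [map_commutator_eq, MonoidHom.range_eq_top.2 hτs]
    have : τ ⟨x, hx⟩ ∈ commutator G := by rw [hG]; exact mem_top _
    exact this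
  obtain ⟨y, hy, hxy⟩ := h1
  have hyE : (y : Γ × P) ∈ EE σ π := by
    have h2 : (commutator (fib σ π)).map (fib σ π).subtype = EE σ π := by
      rw [EE, commutator_def, map_commutator, ← MonoidHom.range_eq_map, range_subtype]
    rw [← h2]
    exact ⟨y, hy, rfl⟩
  have hxy1 : σ (y : Γ × P).1 = σ x.1 := by
    have := hxy
    rw [hτ] at this
    exact this
  have hxy2 : π (y : Γ × P).2 = π x.2 := by
    rw [← mem_fib.1 y.2, ← mem_fib.1 hx]
    exact hxy1
  refine ⟨y, hyE, (y : Γ × P)⁻¹ * x, ?_, ?_, (mul_inv_cancel_left _ _).symm⟩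
  · show σ ((y : Γ × P).1⁻¹ * x.1) = 1
    rw [map_mul, map_inv, hxy1, inv_mul_cancel]
  · show π ((y : Γ × P).2⁻¹ * x.2) = 1
    rw [map_mul, map_inv, hxy2, inv_mul_cancel]

theorem central_of (hσ : σ.ker ≤ center Γ) (hπ : π.ker ≤ center P) {z : Γ × P} (h1 : σ z.1 = 1) (h2 : π z.2 = 1) :
    ∀ x : Γ × P, x * z = z * x := by
  intro x
  exact Prod.ext (mem_center_iff.1 (hσ (MonoidHom.mem_ker.2 h1)) x.1)
    (mem_center_iff.1 (hπ (MonoidHom.mem_ker.2 h2)) x.2)

/-- `EE` is perfect -/
theorem EE_perfect (hG : commutator G = ⊤) (hσ : Function.Surjective σ) (hπ : Function.Surjective π)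
    (hσc : σ.ker ≤ center Γ) (hπc : π.ker ≤ center P) : ⁅EE σ π, EE σ π⁆ = EE σ π := by
  apply le_antisymm (commutator_le_self _)
  show ⁅fib σ π, fib σ π⁆ ≤ _
  rw [commutator_le]
  intro a ha b hb
  obtain ⟨y, hy, z, hz1, hz2, rfl⟩ := exists_of_mem_fib hG hσ hπ ha
  obtain ⟨y', hy', z', hz1', hz2', rfl⟩ := exists_of_mem_fib hG hσ hπ hb
  have c1 := central_of hσc hπc hz1 hz2
  have c2 := central_of hσc hπc hz1' hz2'
  have e : ⁅y * z, y' * z'⁆ = ⁅y, y'⁆ := by
    rw [commutatorElement_def, commutatorElement_def, mul_inv_rev, mul_inv_rev]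
    calc y * z * (y' * z') * (z⁻¹ * y⁻¹) * (z'⁻¹ * y'⁻¹)
        = y * (z * (y' * z')) * z⁻¹ * y⁻¹ * z'⁻¹ * y'⁻¹ := by group
      _ = y * ((y' * z') * z) * z⁻¹ * y⁻¹ * z'⁻¹ * y'⁻¹ := by rw [c1]
      _ = y * y' * (z' * y⁻¹) * z'⁻¹ * y'⁻¹ := by group
      _ = y * y' * (y⁻¹ * z') * z'⁻¹ * y'⁻¹ := by rw [c2]
      _ = y * y' * y⁻¹ * y'⁻¹ := by group
  rw [e]
  exact commutator_mem_commutator hy hy'

/-- the projections -/
def pΓ (σ : Γ →* G) (π : P →* G) : EE σ π →* Γ := (MonoidHom.fst Γ P).comp (EE σ π).subtype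
def pP (σ : Γ →* G) (π : P →* G) : EE σ π →* P := (MonoidHom.snd Γ P).comp (EE σ π).subtype

theorem comp_eq (x : EE σ π) : σ (pΓ σ π x) = π (pP σ π x) := mem_fib.1 (EE_le x.2)

theorem commutator_EE (hG : commutator G = ⊤) (hσ : Function.Surjective σ) (hπ : Function.Surjective π)
    (hσc : σ.ker ≤ center Γ) (hπc : π.ker ≤ center P) : commutator (EE σ π) = ⊤ := by
  apply Subgroup.map_injective (EE σ π).subtype_injective
  rw [commutator_def, map_commutator, ← MonoidHom.range_eq_map, range_subtype]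
  exact EE_perfect hG hσ hπ hσc hπc

theorem map_surj (hG : commutator G = ⊤) (hσ : Function.Surjective σ) (hπ : Function.Surjective π) :
    Function.Surjective (σ.comp (pΓ σ π)) := by
  intro g
  obtain ⟨a, ha⟩ := hσ g
  obtain ⟨b, hb⟩ := hπ g
  obtain ⟨y, hy, z, hz1, hz2, e⟩ := exists_of_mem_fib hG hσ hπ (x := (a, b)) (by show σ a = π b; rw [ha, hb])
  refine ⟨⟨y, hy⟩, ?_⟩
  show σ y.1 = g
  have h1 : a = y.1 * z.1 := congrArg Prod.fst e
  rw [← ha, h1, map_mul, hz1, mul_one]

/-- `EE → G` is a stem extension -/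
theorem stem_EE (hG : commutator G = ⊤) (hσ : Function.Surjective σ) (hπ : Function.Surjective π)
    (hσc : σ.ker ≤ center Γ) (hπc : π.ker ≤ center P) : Cfsg.IsStemExtension (σ.comp (pΓ σ π)) := by
  refine isStem (commutator_EE hG hσ hπ hσc hπc) (map_surj hG hσ hπ) ?_
  intro x hx
  have h1 : σ (x : Γ × P).1 = 1 := hx
  have h2 : π (x : Γ × P).2 = 1 := by rw [← mem_fib.1 (EE_le x.2)]; exact h1
  rw [mem_center_iff]
  intro y
  exact Subtype.ext (central_of hσc hπc h1 h2 y)

theorem pΓ_surj (hG : commutator G = ⊤) (hσ : Cfsg.IsStemExtension σ) (hπ : Function.Surjective π) :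
    Function.Surjective (pΓ σ π) :=
  H487.surjective_of_isStemExtension (map_surj hG hσ.1 hπ) hσ rfl

theorem pP_surj (hG : commutator G = ⊤) (hσ : Function.Surjective σ) (hπ : Cfsg.IsStemExtension π) :
    Function.Surjective (pP σ π) := by
  refine H487.surjective_of_isStemExtension (map_surj hG hσ hπ.1) hπ ?_
  ext x
  exact (comp_eq x).symm

/-- the covering homomorphism, if `EE → Γ` is injective -/
theorem exists_of_injective (hG : commutator G = ⊤) (hσ : Cfsg.IsStemExtension σ) (hπ : Cfsg.IsStemExtension π)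
    (hinj : Function.Injective (pΓ σ π)) : ∃ φ : Γ →* P, Function.Surjective φ ∧ ∀ x, π (φ x) = σ x := by
  obtain ⟨e, he⟩ : ∃ e : EE σ π ≃* Γ, ∀ x, e x = pΓ σ π x :=
    ⟨MulEquiv.ofBijective (pΓ σ π) ⟨hinj, pΓ_surj hG hσ hπ.1⟩, fun _ => rfl⟩
  refine ⟨(pP σ π).comp e.symm.toMonoidHom, (pP_surj hG hσ.1 hπ).comp e.symm.surjective, fun x => ?_⟩
  show π (pP σ π (e.symm x)) = σ x
  rw [← comp_eq, ← he, MulEquiv.apply_symm_apply]

end Fibre

/-- **A stem extension of a perfect group whose kernel has the order of the Schur multiplier maps onto every other stem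
extension.** -/
theorem exists_cover {G : Type u} [Group G] [Finite G] (hG : commutator G = ⊤) {A : Type v} [CommGroup A] [Finite A]
    (hA : Cfsg.HasSchurMultiplier G A) {Γ : Type w} [Group Γ] [Finite Γ] (σ : Γ →* G) (hσ : Cfsg.IsStemExtension σ)
    (hcard : Nat.card σ.ker = Nat.card A) {P : Type w'} [Group P] [Finite P] (π : P →* G)
    (hπ : Cfsg.IsStemExtension π) : ∃ φ : Γ →* P, Function.Surjective φ ∧ ∀ x, π (φ x) = σ x := by
  refine exists_of_injective hG hσ hπ ?_
  have hst := stem_EE hG hσ.1 hπ.1 hσ.2.1 hπ.2.1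
  obtain ⟨f, hf⟩ := H487.HasSchurMultiplier.exists_surj_ker hA hst
  have hfin : Finite (EE σ π) := inferInstance
  have h1 : Nat.card (σ.comp (pΓ σ π)).ker ≤ Nat.card σ.ker := by
    rw [hcard]; exact Nat.card_le_card_of_surjective f hf
  -- orders
  have h2 : Nat.card (EE σ π) = Nat.card (σ.comp (pΓ σ π)).ker * Nat.card G := by
    rw [← card_mul_index (σ.comp (pΓ σ π)).ker, index_ker, MonoidHom.range_eq_top.2 hst.1, card_top]
  have h3 : Nat.card Γ = Nat.card σ.ker * Nat.card G := by
    rw [← card_mul_index σ.ker, index_ker, MonoidHom.range_eq_top.2 hσ.1, card_top]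
  have h4 : Nat.card (EE σ π) ≤ Nat.card Γ := by
    rw [h2, h3]; exact Nat.mul_le_mul_right _ h1
  have hsurj := pΓ_surj (σ := σ) (π := π) hG hσ hπ.1
  have h5 : Nat.card Γ ≤ Nat.card (EE σ π) := Nat.card_le_card_of_surjective _ hsurj
  have h6 : Function.Bijective (pΓ σ π) :=
    (Nat.bijective_iff_surjective_and_card _).2 ⟨hsurj, le_antisymm h4 h5⟩
  exact h6.1

/-- the same for an extension by a perfect group -/
theorem exists_cover' {G : Type u} [Group G] [Finite G] (hG : commutator G = ⊤) {A : Type v} [CommGroup A] [Finite A]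
    (hA : Cfsg.HasSchurMultiplier G A) {Γ : Type w} [Group Γ] [Finite Γ] (σ : Γ →* G) (hσ : Cfsg.IsStemExtension σ)
    (hcard : Nat.card σ.ker = Nat.card A) {P : Type w'} [Group P] [Finite P] (hP : commutator P = ⊤) (π : P →* G)
    (hs : Function.Surjective π) (hc : π.ker ≤ center P) : ∃ φ : Γ →* P, Function.Surjective φ ∧ ∀ x, π (φ x) = σ x :=
  exists_cover hG hA σ hσ hcard π (isStem hP hs hc)

/-- **Trivial multiplier: perfect central extensions are isomorphisms.** -/
theorem injective_of_trivial {G : Type u} [Group G] (hA : Cfsg.HasCyclicSchurMultiplier G 1) {P : Type w} [Group P]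
    (hP : commutator P = ⊤) (π : P →* G) (hs : Function.Surjective π) (hc : π.ker ≤ center P) :
    Function.Injective π := by
  rw [← MonoidHom.ker_eq_bot_iff]
  exact H487.ker_eq_bot_of_trivial hA (isStem hP hs hc)

/-- **A perfect group with trivial multiplier covers the perfect central extensions of its central quotients.** -/
theorem exists_cover_of_trivial {G : Type u} [Group G] (hG : commutator G = ⊤)
    (hA : Cfsg.HasCyclicSchurMultiplier G 1) {T : Type v} [Group T] (σ : G →* T) (hσ : Function.Surjective σ)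
    (hσc : σ.ker ≤ center G) {P : Type w} [Group P] (hP : commutator P = ⊤) (π : P →* T)
    (hπ : Function.Surjective π) (hπc : π.ker ≤ center P) :
    ∃ φ : G →* P, Function.Surjective φ ∧ ∀ x, π (φ x) = σ x := by
  have hT : commutator T = ⊤ := by
    have h1 : (commutator G).map σ = ⁅σ.range, σ.range⁆ := map_commutator_eq G σ
    rw [hG, ← MonoidHom.range_eq_map, MonoidHom.range_eq_top.2 hσ] at h1
    rw [commutator_def]; exact h1.symm
  have hσ' := isStem hG hσ hσc
  have hπ' := isStem hP hπ hπc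
  refine exists_of_injective hT hσ' hπ' ?_
  refine injective_of_trivial hA (commutator_EE hT hσ hπ hσc hπc) (pΓ σ π) (pΓ_surj hT hσ' hπ) ?_
  intro x hx
  have h1 : (x : G × P).1 = 1 := hx
  have h2 : σ (x : G × P).1 = 1 := by rw [h1, map_one]
  have h3 : π (x : G × P).2 = 1 := by rw [← mem_fib.1 (EE_le x.2)]; exact h2
  rw [mem_center_iff]
  intro y
  exact Subtype.ext (central_of hσc hπc h2 h3 y)

/-- **The kernel of a perfect central extension is a quotient of the multiplier.** -/
theorem exists_surj_ker {T : Type u} [Group T] {A : Type v} [CommGroup A] (hA : Cfsg.HasSchurMultiplier T A)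
    {P : Type w} [Group P] (hP : commutator P = ⊤) (π : P →* T) (hπ : Function.Surjective π)
    (hπc : π.ker ≤ center P) : ∃ f : A →* π.ker, Function.Surjective f :=
  H487.HasSchurMultiplier.exists_surj_ker hA (isStem hP hπ hπc)

theorem card_ker_dvd {T : Type u} [Group T] {A : Type v} [CommGroup A] (hA : Cfsg.HasSchurMultiplier T A)
    {P : Type w} [Group P] (hP : commutator P = ⊤) (π : P →* T) (hπ : Function.Surjective π)
    (hπc : π.ker ≤ center P) : Nat.card π.ker ∣ Nat.card A := by
  obtain ⟨f, hf⟩ := exists_surj_ker hA hP π hπ hπc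
  exact card_dvd_of_surjective f hf

/-- cyclic multiplier of order `n` -/
theorem card_ker_dvd_cyclic {T : Type u} [Group T] {n : ℕ} (hA : Cfsg.HasCyclicSchurMultiplier T n)
    {P : Type w} [Group P] (hP : commutator P = ⊤) (π : P →* T) (hπ : Function.Surjective π)
    (hπc : π.ker ≤ center P) : Nat.card π.ker ∣ n := by
  have h1 := card_ker_dvd hA hP π hπ hπc
  rwa [Nat.card_congr Multiplicative.toAdd, Nat.card_zmod] at h1

end Cfsg.Agent.H95.StemCover
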