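import Mathlib

/-!
# Self-normalising 2-subgroups and central quotients (helper95)

* `exists_sylow` : a self-normalising `p`-subgroup is a Sylow subgroup;
* `quot` : if `G` has a self-normalising `p`-subgroup then the Sylow `p`-subgroups of `G / Z(G)` are self-normalising.
-/

set_option autoImplicit false

namespace Cfsg.Agent.H95.SelfNorm

open Subgroup

variable {G : Type*} [Group G]

theorem exists_sylow [Finite G] {p : ℕ} [Fact p.Prime] (T : Subgroup G) (hT : IsPGroup p T)
    (hN : normalizer (T : Set G) ≤ T) : ∃ P : Sylow p G, (P : Subgroup G) = T := by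
  obtain ⟨P, hP⟩ := hT.exists_le_sylow
  refine ⟨P, le_antisymm ?_ hP⟩
  by_contra hcon
  have hnil : Group.IsNilpotent (P : Subgroup G) := P.isPGroup'.isNilpotent
  have hlt : T.subgroupOf P < ⊤ := by
    rw [lt_top_iff_ne_top]
    intro h
    rw [subgroupOf_eq_top] at h
    exact hcon h
  have hnc := Group.normalizerCondition_of_isNilpotent (G := (P : Subgroup G)) _ hlt
  obtain ⟨x, hx, hxT⟩ := SetLike.exists_of_lt hnc
  apply hxT
  rw [mem_subgroupOf]
  apply hN
  rw [mem_normalizer_iff] at hx ⊢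
  intro t
  constructor
  · intro ht
    have := (hx ⟨t, hP ht⟩).1 (by rw [mem_subgroupOf]; exact ht)
    exact this
  · intro ht
    have htP : t ∈ (P : Subgroup G) := by
      have h1 := mul_mem (mul_mem (inv_mem x.2) (hP ht)) x.2
      have e : (x : G)⁻¹ * ((x : G) * t * (x : G)⁻¹) * x = t := by group
      rwa [e] at h1
    have := (hx ⟨t, htP⟩).2 (by
      rw [mem_subgroupOf]
      exact ht)
    exact this

/-- Sylow subgroups are self-normalising if one of them is -/
theorem all_sylow [Finite G] {p : ℕ} [Fact p.Prime] (P Q : Sylow p G)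
    (hN : normalizer ((P : Subgroup G) : Set G) ≤ P) : normalizer ((Q : Subgroup G) : Set G) ≤ Q := by
  obtain ⟨g, rfl⟩ := MulAction.exists_smul_eq G P Q
  intro x hx
  have hmem : ∀ t : G, t ∈ ((g • P : Sylow p G) : Subgroup G) ↔ g⁻¹ * t * g ∈ (P : Subgroup G) := by
    intro t
    rw [Sylow.coe_subgroup_smul]
    constructor
    · rintro ⟨y, hy, rfl⟩
      have e : g⁻¹ * (g * y * g⁻¹) * g = y := by group
      show g⁻¹ * (g * y * g⁻¹) * g ∈ _
      rw [e]; exact hy
    · intro h
      exact ⟨g⁻¹ * t * g, h, by show g * (g⁻¹ * t * g) * g⁻¹ = t; group⟩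
  rw [hmem]
  apply hN
  rw [mem_normalizer_iff] at hx ⊢
  intro t
  have h1 := hx (g * t * g⁻¹)
  rw [hmem, hmem] at h1
  have e1 : g⁻¹ * (g * t * g⁻¹) * g = t := by group
  have e2 : g⁻¹ * (x * (g * t * g⁻¹) * x⁻¹) * g = g⁻¹ * x * g * t * (g⁻¹ * x * g)⁻¹ := by group
  rw [e1, e2] at h1
  exact h1

theorem quot [Finite G] {p : ℕ} [Fact p.Prime] (T : Subgroup G) (hT : IsPGroup p T)
    (hN : normalizer (T : Set G) ≤ T) (S : Sylow p (G ⧸ Subgroup.center G)) :
    normalizer ((S : Subgroup (G ⧸ Subgroup.center G)) : Set (G ⧸ Subgroup.center G)) ≤ S := by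
  have hZ : Subgroup.center G ≤ T := by
    refine le_trans ?_ hN
    intro z hz
    rw [mem_normalizer_iff]
    intro t
    have : z * t * z⁻¹ = t := by
      rw [← Subgroup.mem_center_iff.1 hz t, mul_inv_cancel_right]
    rw [this]
  set T' : Subgroup (G ⧸ Subgroup.center G) := T.map (QuotientGroup.mk' (Subgroup.center G)) with hT'
  have hmem : ∀ x : G, (QuotientGroup.mk' (Subgroup.center G)) x ∈ T' ↔ x ∈ T := by
    intro x
    constructor
    · rintro ⟨t, ht, h⟩
      have h1 : t⁻¹ * x ∈ Subgroup.center G := QuotientGroup.eq.1 h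
      have h2 := mul_mem ht (hZ h1)
      rwa [mul_inv_cancel_left] at h2
    · intro hx
      exact ⟨x, hx, rfl⟩
  have hN' : normalizer (T' : Set (G ⧸ Subgroup.center G)) ≤ T' := by
    intro x hx
    obtain ⟨x, rfl⟩ := QuotientGroup.mk'_surjective _ x
    rw [hmem]
    apply hN
    rw [mem_normalizer_iff] at hx ⊢
    intro t
    have h1 := hx ((QuotientGroup.mk' (Subgroup.center G)) t)
    rw [← map_inv, ← map_mul, ← map_mul, hmem, hmem] at h1
    exact h1
  obtain ⟨P, hP⟩ := exists_sylow T' (hT.map _) hN'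
  refine all_sylow P S ?_
  rw [hP]
  exact hN'

/-- The form used for matrix groups: the 2-subgroup is given in an overgroup. -/
theorem quot_of_hom [Finite G] {Y : Type*} [Group Y] (f : G →* Y) (hf : Function.Injective f) {p : ℕ}
    [Fact p.Prime] (T : Subgroup Y) (hTf : T ≤ f.range) (hT : ∀ t ∈ T, ∃ k : ℕ, t ^ p ^ k = 1)
    (hN : ∀ x ∈ f.range, (∀ t ∈ T, x * t * x⁻¹ ∈ T) → x ∈ T) (S : Sylow p (G ⧸ Subgroup.center G)) :
    normalizer ((S : Subgroup (G ⧸ Subgroup.center G)) : Set (G ⧸ Subgroup.center G)) ≤ S := by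
  refine quot (T.comap f) ?_ ?_ S
  · rintro ⟨t, ht⟩
    obtain ⟨k, hk⟩ := hT (f t) ht
    refine ⟨k, Subtype.ext (hf ?_)⟩
    show f (t ^ p ^ k) = f 1
    rw [map_pow, hk, map_one]
  · intro x hx
    rw [mem_comap]
    refine hN _ ⟨x, rfl⟩ fun t ht => ?_
    obtain ⟨y, rfl⟩ := hTf ht
    have h1 := (mem_normalizer_iff.1 hx y).1 ht
    rw [mem_comap, map_mul, map_mul, map_inv] at h1
    exact h1

end Cfsg.Agent.H95.SelfNorm
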