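import Mathlib
import Cfsg.Agent.H1.Over
import Cfsg.Agent.KFacts.RgdSyl
import Cfsg.Agent.Nodes.NormalForm
import Cfsg.Agent.H94.Pronormal

/-!
# Pronormality in groups with a root group datum with abelian torus (helper95)

* `T_le_normalizer` : the torus `T`, if abelian, normalises every overgroup of `U`;
* `isPronormal` : if `T` is abelian and the root groups and `T` generate, all subgroups of index prime to `p` are
  pronormal.
-/

set_option autoImplicit false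
set_option linter.unusedSectionVars false

namespace Cfsg.Agent.H95.EvenRGD

open CoxeterSystem Cfsg.Agent.ChevalleyStructure.CoxeterGeom Cfsg.Agent.Tits.Roots Cfsg.Agent.Tits.Core
  Cfsg.Agent.Tits.RootComb Cfsg.Agent.Tits.Exchange Cfsg.Agent.Nodes.Reps Cfsg.Agent.Nodes.BNOf
  Cfsg.Agent.Nodes.StabComb Cfsg.Agent.Nodes.Bruhat Cfsg.Agent.Nodes.OppDec Cfsg.Agent.Nodes.LeviDec
  Cfsg.Agent.H1.Over

variable {I W Y : Type*} [Fintype I] [DecidableEq I] [Group W] [Group Y] {M : CoxeterMatrix I}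
  {cs : CoxeterSystem M W} {A : I → I → ℤ} {h : IsCartan M A} {p : ℕ} {T : Subgroup Y} {n : I → Y}
  {X : (I → ℤ) → Subgroup Y}

variable (R : RGD cs h p T n X) {H : Subgroup Y}

include R

/-- **an abelian torus normalises the overgroups of `U`** -/
theorem T_le_normalizer [Finite W] (hU : RGD.Sup X (RGD.Pos cs h) ≤ H) (hG : H ≤ GG cs h T X)
    (hT : ∀ a ∈ T, ∀ b ∈ T, a * b = b * a) : T ≤ Subgroup.normalizer (H : Set Y) := by
  have key : ∀ t ∈ T, ∀ g ∈ H, t * g * t⁻¹ ∈ H := by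
    intro t ht g hg
    obtain ⟨l, hl, v, hv, rfl⟩ := (mem_PJ R).1 (le_PJ R hU hG hg)
    have hTn := R.T_le_normalizer (S := RootsJ cs h (JH X H)) fun x hx => hx.1
    have hl' : ∃ t' ∈ T, ∃ m ∈ RGD.Sup X (RootsJ cs h (JH X H)), t' * m = l := by
      have h1 : l ∈ ((T ⊔ RGD.Sup X (RootsJ cs h (JH X H)) : Subgroup Y) : Set Y) := hl
      rw [Subgroup.coe_mul_of_left_le_normalizer_right _ _ hTn, Set.mem_mul] at h1
      exact h1
    obtain ⟨t', ht', m, hm, rfl⟩ := hl'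
    have hmH := rootsJ_le R hU hm
    have hvH := hU (VJ_le_U _ hv)
    have ht'H : t' ∈ H := by
      have h1 := mul_mem hg (inv_mem (mul_mem hmH hvH))
      have e : t' * m * v * (m * v)⁻¹ = t' := by group
      rwa [e] at h1
    have h2 : t * m * t⁻¹ ∈ H := rootsJ_le R hU ((Subgroup.mem_normalizer_iff.1 (hTn ht) m).1 hm)
    have h3 : t * v * t⁻¹ ∈ H :=
      hU ((Subgroup.mem_normalizer_iff.1 (R.T_le_normalizer_U ht) v).1 (VJ_le_U _ hv))
    have e : t * (t' * m * v) * t⁻¹ = t' * (t * m * t⁻¹) * (t * v * t⁻¹) := by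
      calc t * (t' * m * v) * t⁻¹ = (t * t') * m * v * t⁻¹ := by group
        _ = (t' * t) * m * v * t⁻¹ := by rw [hT t ht t' ht']
        _ = t' * (t * m * t⁻¹) * (t * v * t⁻¹) := by group
    rw [e]
    exact mul_mem (mul_mem ht'H h2) h3
  intro t ht
  rw [Subgroup.mem_normalizer_iff]
  intro g
  constructor
  · exact key t ht g
  · intro hg
    have h1 := key t⁻¹ (inv_mem ht) _ hg
    have e : t⁻¹ * (t * g * t⁻¹) * t⁻¹⁻¹ = g := by group
    rwa [e] at h1

/-- **pronormality** -/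
theorem isPronormal [Finite W] [Finite Y] [Fact p.Prime] (hG : GG cs h T X = ⊤)
    (hT : ∀ a ∈ T, ∀ b ∈ T, a * b = b * a) (H : Subgroup Y) (hH : ¬ p ∣ H.index) : Cfsg.IsPronormal H := by
  obtain ⟨S, hS⟩ := H94.Pronormal.exists_sylow_le H hH
  have hidx := KFacts.RgdSyl.not_dvd_relIndex R
  rw [hG, Subgroup.relIndex_top_right] at hidx
  obtain ⟨g, hg⟩ := MulAction.exists_smul_eq Y S (R.isPGroup_Upos.toSylow hidx)
  have hgU : ∀ x : Y, x ∈ RGD.Sup X (RGD.Pos cs h) ↔ g⁻¹ * x * g ∈ (S : Subgroup Y) := by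
    intro x
    have h1 : x ∈ RGD.Sup X (RGD.Pos cs h) ↔ x ∈ ((g • S : Sylow p Y) : Subgroup Y) := by
      rw [hg]; rfl
    rw [h1, Sylow.coe_subgroup_smul]
    constructor
    · rintro ⟨y, hy, rfl⟩
      have e : g⁻¹ * (g * y * g⁻¹) * g = y := by group
      show g⁻¹ * (g * y * g⁻¹) * g ∈ _
      rw [e]; exact hy
    · intro h
      exact ⟨g⁻¹ * x * g, h, by show g * (g⁻¹ * x * g) * g⁻¹ = x; group⟩
  -- `H' = g H g⁻¹`
  obtain ⟨H', hH'⟩ : ∃ H' : Subgroup Y, H' = H.map (MulAut.conj g).toMonoidHom := ⟨_, rfl⟩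
  have hmem : ∀ x : Y, x ∈ H' ↔ g⁻¹ * x * g ∈ H := by
    intro x
    rw [hH']
    constructor
    · rintro ⟨y, hy, rfl⟩
      have e : g⁻¹ * (g * y * g⁻¹) * g = y := by group
      show g⁻¹ * (g * y * g⁻¹) * g ∈ _
      rw [e]; exact hy
    · intro h
      exact ⟨g⁻¹ * x * g, h, by show g * (g⁻¹ * x * g) * g⁻¹ = x; group⟩
  have hU : RGD.Sup X (RGD.Pos cs h) ≤ H' := fun x hx => (hmem x).2 (hS ((hgU x).1 hx))
  have hB : Subgroup.normalizer (RGD.Sup X (RGD.Pos cs h) : Set Y) ≤ Subgroup.normalizer (H' : Set Y) := by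
    have h1 := Nodes.NormalForm.normalizer_U R
    rw [hG, inf_top_eq] at h1
    rw [h1]
    unfold RGD.B
    exact sup_le (T_le_normalizer R hU (by rw [hG]; exact le_top) hT) (hU.trans Subgroup.le_normalizer)
  refine H94.Pronormal.isPronormal_of_normalizer_le S H hS ?_
  intro x hx
  have h2 : g * x * g⁻¹ ∈ Subgroup.normalizer (RGD.Sup X (RGD.Pos cs h) : Set Y) := by
    rw [Subgroup.mem_normalizer_iff] at hx ⊢
    intro y
    have h3 := hx (g⁻¹ * y * g)
    have e : x * (g⁻¹ * y * g) * x⁻¹ = g⁻¹ * (g * x * g⁻¹ * y * (g * x * g⁻¹)⁻¹) * g := by group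
    rw [e] at h3
    exact (hgU y).trans (h3.trans (hgU _).symm)
  have h3 := hB h2
  rw [Subgroup.mem_normalizer_iff] at h3 ⊢
  intro y
  have h4 := h3 (g * y * g⁻¹)
  rw [hmem, hmem] at h4
  have e1 : g⁻¹ * (g * y * g⁻¹) * g = y := by group
  have e2 : g⁻¹ * (g * x * g⁻¹ * (g * y * g⁻¹) * (g * x * g⁻¹)⁻¹) * g = x * y * x⁻¹ := by group
  rw [e1, e2] at h4
  exact h4

end Cfsg.Agent.H95.EvenRGD
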