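import Mathlib
import Cfsg.Agent.Nodes.RGDTypeA
import Cfsg.Agent.H95.EvenRGD

/-!
# Subgroups of `PSL_n(F)` of index prime to the characteristic are pronormal (helper95)
-/

set_option autoImplicit false

namespace Cfsg.Agent.H95.EvenPSL

open Matrix Cfsg.Agent.ChevalleyStructure.CoxeterGeom Cfsg.Agent.Nodes.BNOf Cfsg.Agent.Nodes.RGDLib
  Cfsg.Agent.Nodes

theorem T_comm {ι F : Type*} [Field F] [DecidableEq ι] [Fintype ι] {a b : SpecialLinearGroup ι F}
    (ha : a ∈ RGDTypeA.T ι F) (hb : b ∈ RGDTypeA.T ι F) : a * b = b * a := by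
  have ha' : ∀ i j, i ≠ j → (a : Matrix ι ι F) i j = 0 := fun i j hij => by
    by_contra h
    exact hij (ha i j h)
  have hb' : ∀ i j, i ≠ j → (b : Matrix ι ι F) i j = 0 := fun i j hij => by
    by_contra h
    exact hij (hb i j h)
  have key : ∀ a b : SpecialLinearGroup ι F, (∀ i j, i ≠ j → (a : Matrix ι ι F) i j = 0) →
      (∀ i j, i ≠ j → (b : Matrix ι ι F) i j = 0) → ∀ i j,
      ((a : Matrix ι ι F) * (b : Matrix ι ι F)) i j = (a : Matrix ι ι F) i i * (b : Matrix ι ι F) i j := by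
    intro a b ha' hb' i j
    rw [Matrix.mul_apply]
    exact Finset.sum_eq_single i (fun k _ hk => by rw [ha' i k hk.symm, zero_mul]) fun h => absurd (Finset.mem_univ i) h
  apply Subtype.ext
  show (a : Matrix ι ι F) * (b : Matrix ι ι F) = (b : Matrix ι ι F) * (a : Matrix ι ι F)
  ext i j
  rw [key a b ha' hb', key b a hb' ha']
  by_cases hij : i = j
  · subst hij; exact mul_comm _ _
  · rw [ha' i j hij, hb' i j hij, mul_zero, mul_zero]

theorem isPronormal {F : Type*} [Field F] [Finite F] (n : ℕ) {p : ℕ} [Fact p.Prime] [CharP F p]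
    (H : Subgroup (ProjectiveSpecialLinearGroup (Fin (n + 1)) F)) (hH : ¬ p ∣ H.index) : Cfsg.IsPronormal H := by
  have : Finite (Cfsg.Agent.LieRecognition.BNCox.cA n).Group :=
    RootsA.finite_W (Cfsg.Agent.LieRecognition.BNCox.cA n).toCoxeterSystem (RootsA.isCartan n)
  have R := RGDTypeA.rgd_psl (F := F) (n := n) (p := p) (Cfsg.Agent.LieRecognition.BNCox.cA n).toCoxeterSystem
    (RootsA.isCartan n)
  have hG := RGDTypeA.G1_psl_eq_top (F := F) (n := n) (Cfsg.Agent.LieRecognition.BNCox.cA n).toCoxeterSystem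
    (RootsA.isCartan n)
  refine EvenRGD.isPronormal R (eq_top_iff.2 ?_) ?_ H hH
  · rw [← hG]
    exact le_sup_right
  · rintro _ ⟨a, ha, rfl⟩ _ ⟨b, hb, rfl⟩
    rw [← map_mul, ← map_mul, T_comm ha hb]

end Cfsg.Agent.H95.EvenPSL
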