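import Mathlib

/-!
# Wreathed 2-groups of matrices and their normalisers (helper95)

`dg a b` block diagonal, `sw` the swap; `Fam` a family of subgroups of `GL` closed under blocks (`GL`, `GU`);
`Good 𝓕 R` : `R` is a 2-subgroup of `𝓕.L ι` with `N(R) = R Z`; `Good.step`, `norm_sl`: for `T = (R ≀ 2) ∩ SL` the
normaliser of `T` is contained in `(R ≀ 2) Z`.
-/

set_option autoImplicit false

namespace Cfsg.Agent.H95.Wreath

open Matrix

variable {F : Type*} [Field F] {ι : Type} [Fintype ι] [DecidableEq ι]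

/-- block diagonal matrix -/
def dg (a b : GL ι F) : GL (ι ⊕ ι) F where
  val := fromBlocks (a : Matrix ι ι F) 0 0 (b : Matrix ι ι F)
  inv := fromBlocks ((a⁻¹ : GL ι F) : Matrix ι ι F) 0 0 ((b⁻¹ : GL ι F) : Matrix ι ι F)
  val_inv := by
    rw [fromBlocks_multiply, ← fromBlocks_one, ← Units.val_mul, ← Units.val_mul]
    simp
  inv_val := by
    rw [fromBlocks_multiply, ← fromBlocks_one, ← Units.val_mul, ← Units.val_mul]
    simp

/-- the swap of the two blocks -/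
def sw : GL (ι ⊕ ι) F where
  val := fromBlocks 0 1 1 0
  inv := fromBlocks 0 1 1 0
  val_inv := by rw [fromBlocks_multiply, ← fromBlocks_one]; simp
  inv_val := by rw [fromBlocks_multiply, ← fromBlocks_one]; simp

theorem dg_val (a b : GL ι F) :
    ((dg a b : GL (ι ⊕ ι) F) : Matrix (ι ⊕ ι) (ι ⊕ ι) F) = fromBlocks (a : Matrix ι ι F) 0 0 b := rfl

theorem sw_val : ((sw : GL (ι ⊕ ι) F) : Matrix (ι ⊕ ι) (ι ⊕ ι) F) = fromBlocks 0 1 1 0 := rfl

theorem dg_mul (a b c d : GL ι F) : dg a b * dg c d = dg (a * c) (b * d) := by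
  apply Units.ext
  rw [Units.val_mul, dg_val, dg_val, dg_val, fromBlocks_multiply]
  simp

theorem dg_one : dg (1 : GL ι F) 1 = 1 := by
  apply Units.ext
  rw [dg_val]
  exact fromBlocks_one

theorem dg_inv (a b : GL ι F) : (dg a b)⁻¹ = dg a⁻¹ b⁻¹ := by
  rw [inv_eq_iff_mul_eq_one, dg_mul, mul_inv_cancel, mul_inv_cancel, dg_one]

theorem dg_inj {a b c d : GL ι F} (h : dg a b = dg c d) : a = c ∧ b = d := by
  have h1 := congrArg Units.val h
  rw [dg_val, dg_val, fromBlocks_inj] at h1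
  exact ⟨Units.ext h1.1, Units.ext h1.2.2.2⟩

theorem sw_mul_sw : (sw : GL (ι ⊕ ι) F) * sw = 1 := by
  apply Units.ext
  rw [Units.val_mul, sw_val, fromBlocks_multiply]
  simp

theorem sw_inv : (sw : GL (ι ⊕ ι) F)⁻¹ = sw := by
  rw [inv_eq_iff_mul_eq_one, sw_mul_sw]

theorem sw_dg (a b : GL ι F) : sw * dg a b = dg b a * sw := by
  apply Units.ext
  rw [Units.val_mul, Units.val_mul, dg_val, dg_val, sw_val, fromBlocks_multiply, fromBlocks_multiply]
  simp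

theorem dg_sw_ne [Nonempty ι] (a b c d : GL ι F) : dg a b * sw ≠ dg c d := by
  intro h
  have h1 := congrArg Units.val h
  rw [Units.val_mul, dg_val, dg_val, sw_val, fromBlocks_multiply] at h1
  rw [fromBlocks_inj] at h1
  have h2 : (0 : Matrix ι ι F) = c := by simpa using h1.1
  obtain ⟨i⟩ := ‹Nonempty ι›
  have h3 : (c : Matrix ι ι F) * ((c⁻¹ : GL ι F) : Matrix ι ι F) = 1 := by
    rw [← Units.val_mul, mul_inv_cancel]; rfl
  rw [← h2, zero_mul] at h3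
  have h4 := congrFun (congrFun h3 i) i
  simp at h4

theorem det_dg (a b : GL ι F) : (dg a b : Matrix (ι ⊕ ι) (ι ⊕ ι) F).det =
    (a : Matrix ι ι F).det * (b : Matrix ι ι F).det := by
  rw [dg_val, det_fromBlocks_zero₂₁]

/-- the determinant of the swap -/
theorem det_sw (hev : Even (Fintype.card ι)) : ((sw : GL (ι ⊕ ι) F) : Matrix (ι ⊕ ι) (ι ⊕ ι) F).det = 1 := by
  have h1 : fromBlocks (0 : Matrix ι ι F) (1 : Matrix ι ι F) (1 : Matrix ι ι F) (0 : Matrix ι ι F) =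
      fromBlocks (1 : Matrix ι ι F) (0 : Matrix ι ι F) (0 : Matrix ι ι F) (-1 : Matrix ι ι F) *
      (fromBlocks (1 : Matrix ι ι F) (1 : Matrix ι ι F) (0 : Matrix ι ι F) (1 : Matrix ι ι F) *
        fromBlocks (1 : Matrix ι ι F) (0 : Matrix ι ι F) (-1 : Matrix ι ι F) (1 : Matrix ι ι F) *
        fromBlocks (1 : Matrix ι ι F) (1 : Matrix ι ι F) (0 : Matrix ι ι F) (1 : Matrix ι ι F)) := by
    rw [fromBlocks_multiply, fromBlocks_multiply, fromBlocks_multiply]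
    congr 1 <;> simp
  rw [sw_val, h1, det_mul, det_mul, det_mul]
  simp only [det_fromBlocks_zero₂₁, det_fromBlocks_zero₁₂, det_one, mul_one, one_mul]
  rw [det_neg, det_one, mul_one, hev.neg_one_pow]

/-- a family of groups of matrices closed under blocks -/
structure Fam (F : Type*) [Field F] where
  L : ∀ (ι : Type) [Fintype ι] [DecidableEq ι], Subgroup (GL ι F)
  blk : ∀ (ι : Type) [Fintype ι] [DecidableEq ι] (a b : GL ι F), dg a b ∈ L (ι ⊕ ι) ↔ a ∈ L ι ∧ b ∈ L ι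
  sw_mem : ∀ (ι : Type) [Fintype ι] [DecidableEq ι], (sw : GL (ι ⊕ ι) F) ∈ L (ι ⊕ ι)

/-- scalar matrices -/
def sc (ι : Type) [Fintype ι] [DecidableEq ι] (c : Fˣ) : GL ι F := Units.map (algebraMap F (Matrix ι ι F)).toMonoidHom c

theorem sc_val (c : Fˣ) : ((sc ι c : GL ι F) : Matrix ι ι F) = algebraMap F (Matrix ι ι F) c := rfl

theorem sc_mul (c d : Fˣ) : sc ι (c * d) = sc ι c * sc ι d := map_mul (Units.map _) c d

theorem sc_one : sc ι (1 : Fˣ) = 1 := map_one (Units.map _)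

theorem sc_inv (c : Fˣ) : sc ι c⁻¹ = (sc ι c)⁻¹ := map_inv (Units.map _) c

theorem sc_pow (c : Fˣ) (n : ℕ) : sc ι (c ^ n) = sc ι c ^ n := map_pow (Units.map _) c n

theorem sc_comm (c : Fˣ) (g : GL ι F) : sc ι c * g = g * sc ι c := by
  apply Units.ext
  rw [Units.val_mul, Units.val_mul, sc_val]
  exact Algebra.commutes _ _

theorem sc_sum (c : Fˣ) : sc (ι ⊕ ι) c = dg (sc ι c) (sc ι c) := by
  apply Units.ext
  rw [dg_val, sc_val, sc_val, Algebra.algebraMap_eq_smul_one, Algebra.algebraMap_eq_smul_one, ← fromBlocks_one,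
    fromBlocks_smul, smul_zero]

theorem det_sc (c : Fˣ) : (sc ι c : Matrix ι ι F).det = (c : F) ^ Fintype.card ι := by
  rw [sc_val, Algebra.algebraMap_eq_smul_one, det_smul, det_one, mul_one]

/-- the wreathed group -/
def wr (R : Subgroup (GL ι F)) : Subgroup (GL (ι ⊕ ι) F) where
  carrier := {g | ∃ a ∈ R, ∃ b ∈ R, g = dg a b ∨ g = dg a b * sw}
  mul_mem' := by
    rintro _ _ ⟨a, ha, b, hb, rfl | rfl⟩ ⟨c, hc, d, hd, rfl | rfl⟩
    · exact ⟨_, mul_mem ha hc, _, mul_mem hb hd, Or.inl (dg_mul _ _ _ _)⟩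
    · exact ⟨_, mul_mem ha hc, _, mul_mem hb hd, Or.inr (by rw [← mul_assoc, dg_mul])⟩
    · exact ⟨_, mul_mem ha hd, _, mul_mem hb hc, Or.inr (by rw [mul_assoc, sw_dg, ← mul_assoc, dg_mul])⟩
    · exact ⟨_, mul_mem ha hd, _, mul_mem hb hc, Or.inl (by
        rw [mul_assoc, ← mul_assoc sw, sw_dg, mul_assoc (dg d c), sw_mul_sw, mul_one, dg_mul])⟩
  one_mem' := ⟨1, one_mem _, 1, one_mem _, Or.inl dg_one.symm⟩
  inv_mem' := by
    rintro _ ⟨a, ha, b, hb, rfl | rfl⟩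
    · exact ⟨_, inv_mem ha, _, inv_mem hb, Or.inl (dg_inv _ _)⟩
    · exact ⟨_, inv_mem hb, _, inv_mem ha, Or.inr (by rw [_root_.mul_inv_rev, sw_inv, dg_inv, sw_dg])⟩

theorem mem_wr {R : Subgroup (GL ι F)} {g : GL (ι ⊕ ι) F} :
    g ∈ wr R ↔ ∃ a ∈ R, ∃ b ∈ R, g = dg a b ∨ g = dg a b * sw := Iff.rfl

theorem dg_mem_wr [Nonempty ι] {R : Subgroup (GL ι F)} {a b : GL ι F} : dg a b ∈ wr R ↔ a ∈ R ∧ b ∈ R := by
  constructor
  · rintro ⟨c, hc, d, hd, h | h⟩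
    · obtain ⟨rfl, rfl⟩ := dg_inj h
      exact ⟨hc, hd⟩
    · exact absurd h.symm (dg_sw_ne _ _ _ _)
  · rintro ⟨ha, hb⟩
    exact ⟨a, ha, b, hb, Or.inl rfl⟩

theorem sw_mem_wr {R : Subgroup (GL ι F)} : (sw : GL (ι ⊕ ι) F) ∈ wr R :=
  ⟨1, one_mem _, 1, one_mem _, Or.inr (by rw [dg_one, one_mul])⟩

theorem dg_sw_mem_wr [Nonempty ι] {R : Subgroup (GL ι F)} {a b : GL ι F} : dg a b * sw ∈ wr R ↔ a ∈ R ∧ b ∈ R := by
  rw [← dg_mem_wr (R := R)]
  constructor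
  · intro h
    have := mul_mem h (sw_mem_wr (R := R))
    rwa [mul_assoc, sw_mul_sw, mul_one] at this
  · intro h
    exact mul_mem h sw_mem_wr

/-- the part of determinant one -/
def sl (R : Subgroup (GL ι F)) : Subgroup (GL ι F) where
  carrier := {g | g ∈ R ∧ (g : Matrix ι ι F).det = 1}
  mul_mem' := by
    rintro a b ⟨ha, ha'⟩ ⟨hb, hb'⟩
    exact ⟨mul_mem ha hb, by rw [Units.val_mul, det_mul, ha', hb', one_mul]⟩
  one_mem' := ⟨one_mem _, by rw [Units.val_one, det_one]⟩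
  inv_mem' := by
    rintro a ⟨ha, ha'⟩
    refine ⟨inv_mem ha, ?_⟩
    have h1 : (a : Matrix ι ι F) * ((a⁻¹ : GL ι F) : Matrix ι ι F) = 1 := by
      rw [← Units.val_mul, mul_inv_cancel]; rfl
    have h2 := congrArg Matrix.det h1
    rw [det_mul, ha', one_mul, det_one] at h2
    exact h2

theorem mem_sl {R : Subgroup (GL ι F)} {g : GL ι F} : g ∈ sl R ↔ g ∈ R ∧ (g : Matrix ι ι F).det = 1 := Iff.rfl

theorem det_inv_eq {a : GL ι F} : ((a⁻¹ : GL ι F) : Matrix ι ι F).det = ((a : Matrix ι ι F).det)⁻¹ := by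
  have h1 : (a : Matrix ι ι F) * ((a⁻¹ : GL ι F) : Matrix ι ι F) = 1 := by
    rw [← Units.val_mul, mul_inv_cancel]; rfl
  have h2 := congrArg Matrix.det h1
  rw [det_mul, det_one] at h2
  exact eq_inv_of_mul_eq_one_right h2

theorem det_ne {a : GL ι F} : (a : Matrix ι ι F).det ≠ 0 := by
  intro h
  have h1 : (a : Matrix ι ι F) * ((a⁻¹ : GL ι F) : Matrix ι ι F) = 1 := by
    rw [← Units.val_mul, mul_inv_cancel]; rfl
  have h2 := congrArg Matrix.det h1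
  rw [det_mul, det_one, h, zero_mul] at h2
  exact zero_ne_one h2

/-- the good 2-subgroups -/
structure Good (𝓕 : Fam F) (R : Subgroup (GL ι F)) : Prop where
  le : R ≤ 𝓕.L ι
  two : ∀ g ∈ R, ∃ k : ℕ, g ^ 2 ^ k = 1
  scal : ∀ c : Fˣ, sc ι c ∈ 𝓕.L ι → (∃ k : ℕ, c ^ 2 ^ k = 1) → sc ι c ∈ R
  norm : ∀ x ∈ 𝓕.L ι, (∀ r ∈ R, x * r * x⁻¹ ∈ R) → ∃ c : Fˣ, sc ι c * x ∈ R
  cen : ∀ a : GL ι F, a * a = 1 → (∀ r ∈ sl R, a * r = r * a) → a = 1 ∨ a = -1
  three : ∃ r ∈ sl R, r ≠ 1 ∧ r * r ≠ 1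

/-- the involution `diag(1,-1)` -/
def zz : GL (ι ⊕ ι) F := dg 1 (-1 : GL ι F)

theorem zz_mul : (zz : GL (ι ⊕ ι) F) * zz = 1 := by
  rw [zz, dg_mul, mul_one, neg_mul_neg, mul_one, dg_one]

theorem zz_inv : (zz : GL (ι ⊕ ι) F)⁻¹ = zz := by
  rw [inv_eq_iff_mul_eq_one, zz_mul]

theorem neg_dg (a b : GL ι F) : -dg a b = dg (-a) (-b) := by
  apply Units.ext
  rw [Units.val_neg, dg_val, dg_val, fromBlocks_neg]
  simp

theorem sw_zz : (sw : GL (ι ⊕ ι) F) * zz * sw⁻¹ = -(zz : GL (ι ⊕ ι) F) := by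
  rw [zz, sw_dg, mul_assoc, mul_inv_cancel, mul_one, neg_dg, neg_neg]

theorem det_zz (hev : Even (Fintype.card ι)) : ((zz : GL (ι ⊕ ι) F) : Matrix (ι ⊕ ι) (ι ⊕ ι) F).det = 1 := by
  rw [zz, det_dg, Units.val_neg, Units.val_one, det_neg, det_one, hev.neg_one_pow, mul_one, mul_one]

/-- commuting with `diag(1,-1)` -/
theorem exists_dg_of_comm (h2 : (2 : F) ≠ 0) {x : GL (ι ⊕ ι) F}
    (hx : x * zz = zz * x) : ∃ a b : GL ι F, x = dg a b := by
  have key : ∀ y : GL (ι ⊕ ι) F, y * zz = zz * y →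
      ∃ A D : Matrix ι ι F, (y : Matrix (ι ⊕ ι) (ι ⊕ ι) F) = fromBlocks A 0 0 D := by
    intro y hy
    have h1 := congrArg Units.val hy
    rw [Units.val_mul, Units.val_mul, zz, dg_val] at h1
    obtain ⟨A, B, C, D, hABCD⟩ : ∃ A B C D : Matrix ι ι F,
        (y : Matrix (ι ⊕ ι) (ι ⊕ ι) F) = fromBlocks A B C D :=
      ⟨_, _, _, _, (fromBlocks_toBlocks _).symm⟩
    rw [hABCD, fromBlocks_multiply, fromBlocks_multiply, fromBlocks_inj] at h1
    obtain ⟨-, hB, hC, -⟩ := h1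
    have two_smul_eq : ∀ M : Matrix ι ι F, M = -M → M = 0 := by
      intro M hM
      ext i j
      have h3 := congrFun (congrFun hM i) j
      rw [Matrix.neg_apply] at h3
      have h4 : 2 * M i j = 0 := by linear_combination h3
      rcases mul_eq_zero.1 h4 with h5 | h5
      · exact absurd h5 h2
      · rw [h5]; rfl
    have hB' : B = 0 := by
      apply two_smul_eq
      have := hB
      simp only [mul_zero, zero_add, Units.val_neg, Units.val_one, mul_neg, mul_one, one_mul, zero_mul,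
        add_zero] at this
      exact this.symm
    have hC' : C = 0 := by
      apply two_smul_eq
      have := hC
      simp only [mul_zero, zero_add, Units.val_neg, Units.val_one, mul_one, one_mul, zero_mul,
        add_zero, neg_mul] at this
      exact this
    exact ⟨A, D, by rw [hABCD, hB', hC']⟩
  have hx' : x⁻¹ * zz = zz * x⁻¹ := by
    calc x⁻¹ * zz = x⁻¹ * (zz * x) * x⁻¹ := by group
      _ = x⁻¹ * (x * zz) * x⁻¹ := by rw [hx]
      _ = zz * x⁻¹ := by group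
  obtain ⟨A, D, h1⟩ := key x hx
  obtain ⟨A', D', h3⟩ := key x⁻¹ hx'
  have h4 : (x : Matrix (ι ⊕ ι) (ι ⊕ ι) F) * ((x⁻¹ : GL (ι ⊕ ι) F) : Matrix (ι ⊕ ι) (ι ⊕ ι) F) = 1 := by
    rw [← Units.val_mul, mul_inv_cancel]; rfl
  have h5 : ((x⁻¹ : GL (ι ⊕ ι) F) : Matrix (ι ⊕ ι) (ι ⊕ ι) F) * (x : Matrix (ι ⊕ ι) (ι ⊕ ι) F) = 1 := by
    rw [← Units.val_mul, inv_mul_cancel]; rfl
  rw [h1, h3, fromBlocks_multiply, ← fromBlocks_one, fromBlocks_inj] at h4 h5
  simp only [mul_zero, add_zero, zero_add, zero_mul] at h4 h5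
  refine ⟨⟨A, A', h4.1, h5.1⟩, ⟨D, D', h4.2.2.2, h5.2.2.2⟩, ?_⟩
  apply Units.ext
  rw [h1, dg_val]

/-! ### the characteristic pair of involutions -/

/-- `u` is a noncentral involution with at most two conjugates under `T` -/
def Tw (T : Subgroup (GL ι F)) (u : GL ι F) : Prop :=
  u ∈ T ∧ u * u = 1 ∧ u ≠ 1 ∧ u ≠ -1 ∧ ∀ g ∈ T, ∀ h ∈ T,
    g * u * g⁻¹ = u ∨ h * u * h⁻¹ = u ∨ g * u * g⁻¹ = h * u * h⁻¹

theorem Tw.conj {T : Subgroup (GL ι F)} {u x : GL ι F} (hu : Tw T u) (hx : ∀ t ∈ T, x * t * x⁻¹ ∈ T)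
    (hx' : ∀ t ∈ T, x⁻¹ * t * x ∈ T) : Tw T (x * u * x⁻¹) := by
  obtain ⟨h1, h2, h3, h4, h5⟩ := hu
  refine ⟨hx u h1, ?_, ?_, ?_, ?_⟩
  · calc x * u * x⁻¹ * (x * u * x⁻¹) = x * (u * u) * x⁻¹ := by group
      _ = 1 := by rw [h2]; group
  · intro h
    apply h3
    calc u = x⁻¹ * (x * u * x⁻¹) * x := by group
      _ = 1 := by rw [h]; group
  · intro h
    apply h4
    calc u = x⁻¹ * (x * u * x⁻¹) * x := by group
      _ = -1 := by rw [h, mul_neg, mul_one, neg_mul, inv_mul_cancel]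
  · intro g hg h hh
    have e1 : ∀ g : GL ι F, g * (x * u * x⁻¹) * g⁻¹ = x * ((x⁻¹ * g * x) * u * (x⁻¹ * g * x)⁻¹) * x⁻¹ := by
      intro g; group
    have e2 : ∀ a b : GL ι F, x * a * x⁻¹ = x * b * x⁻¹ ↔ a = b := by
      intro a b
      rw [mul_left_inj, mul_right_inj]
    rw [e1, e1, e2, e2, e2]
    exact h5 _ (hx' g hg) _ (hx' h hh)

theorem eq_or_of_dg [Nonempty ι] {R : Subgroup (GL ι F)} (hev : Even (Fintype.card ι))
    (cen : ∀ a : GL ι F, a * a = 1 → (∀ r ∈ sl R, a * r = r * a) → a = 1 ∨ a = -1)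
    (three : ∃ r ∈ sl R, r ≠ 1 ∧ r * r ≠ 1) {u : GL (ι ⊕ ι) F} (hu : Tw (sl (wr R)) u) :
    u = zz ∨ u = -(zz : GL (ι ⊕ ι) F) := by
  obtain ⟨huT, huu, hu1, hu2, hP⟩ := hu
  have hsw : (sw : GL (ι ⊕ ι) F) ∈ sl (wr R) := ⟨sw_mem_wr, det_sw hev⟩
  have hd1 : ∀ r ∈ sl R, dg r 1 ∈ sl (wr R) := fun r hr =>
    ⟨dg_mem_wr.2 ⟨hr.1, one_mem _⟩, by rw [det_dg, hr.2, Units.val_one, det_one, mul_one]⟩
  have hd2 : ∀ r ∈ sl R, dg 1 r ∈ sl (wr R) := fun r hr =>
    ⟨dg_mem_wr.2 ⟨one_mem _, hr.1⟩, by rw [det_dg, hr.2, Units.val_one, det_one, mul_one]⟩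
  have conj1 : ∀ r a b : GL ι F, dg r 1 * dg a b * (dg r 1)⁻¹ = dg (r * a * r⁻¹) b := by
    intro r a b
    rw [dg_inv, dg_mul, dg_mul, one_mul, inv_one, mul_one]
  have conj2 : ∀ r a b : GL ι F, dg 1 r * dg a b * (dg 1 r)⁻¹ = dg a (r * b * r⁻¹) := by
    intro r a b
    rw [dg_inv, dg_mul, dg_mul, one_mul, inv_one, mul_one]
  have conjs : ∀ a b : GL ι F, sw * dg a b * sw⁻¹ = dg b a := by
    intro a b
    rw [sw_dg, mul_assoc, mul_inv_cancel, mul_one]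
  have hne : ∀ {r a : GL ι F}, a * r ≠ r * a → r * a * r⁻¹ ≠ a := by
    intro r a h e
    apply h
    calc a * r = (r * a * r⁻¹) * r := by rw [e]
      _ = r * a := by group
  obtain ⟨a, ha, b, hb, rfl | rfl⟩ := huT.1
  · rw [dg_mul, ← dg_one] at huu
    obtain ⟨haa, hbb⟩ := dg_inj huu
    have ha1 : a = 1 ∨ a = -1 := by
      by_contra hcon
      have : ∃ r ∈ sl R, a * r ≠ r * a := by
        by_contra hc
        push Not at hc
        exact hcon (cen a haa hc)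
      obtain ⟨r, hr, hra⟩ := this
      have h1 := hP _ (hd1 r hr) _ hsw
      rw [conj1, conjs] at h1
      have hab : b = a := by
        rcases h1 with h1 | h1 | h1
        · exact absurd (dg_inj h1).1 (hne hra)
        · exact (dg_inj h1).1
        · exact absurd ((dg_inj h1).1.trans (dg_inj h1).2) (hne hra)
      subst hab
      have h2 := hP _ (hd1 r hr) _ (hd2 r hr)
      rw [conj1, conj2] at h2
      rcases h2 with h2 | h2 | h2
      · exact hne hra (dg_inj h2).1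
      · exact hne hra (dg_inj h2).2
      · exact hne hra (dg_inj h2).1
    have hb1 : b = 1 ∨ b = -1 := by
      by_contra hcon
      have : ∃ r ∈ sl R, b * r ≠ r * b := by
        by_contra hc
        push Not at hc
        exact hcon (cen b hbb hc)
      obtain ⟨r, hr, hra⟩ := this
      have h1 := hP _ (hd2 r hr) _ hsw
      rw [conj2, conjs] at h1
      have hab : b = a := by
        rcases h1 with h1 | h1 | h1
        · exact absurd (dg_inj h1).2 (hne hra)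
        · exact (dg_inj h1).1
        · exact absurd ((dg_inj h1).2.trans (dg_inj h1).1) (hne hra)
      subst hab
      have h2 := hP _ (hd1 r hr) _ (hd2 r hr)
      rw [conj1, conj2] at h2
      rcases h2 with h2 | h2 | h2
      · exact hne hra (dg_inj h2).1
      · exact hne hra (dg_inj h2).2
      · exact hne hra (dg_inj h2).1
    rcases ha1 with rfl | rfl <;> rcases hb1 with rfl | rfl
    · exact absurd dg_one hu1
    · left; rfl
    · right
      rw [zz, neg_dg, neg_neg]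
    · exact absurd (by rw [← dg_one, neg_dg]) hu2
  · exfalso
    obtain ⟨r, hr, hr1, hr2⟩ := three
    have hc : ∀ s : GL ι F, dg s 1 * (dg a b * sw) * (dg s 1)⁻¹ = dg (s * a) (b * s⁻¹) * sw := by
      intro s
      rw [dg_inv, inv_one]
      calc dg s 1 * (dg a b * sw) * dg s⁻¹ 1 = dg s 1 * dg a b * (sw * dg s⁻¹ 1) := by
            simp only [mul_assoc]
        _ = dg (s * a) (b * s⁻¹) * sw := by
            rw [sw_dg, ← mul_assoc, dg_mul, dg_mul, one_mul, mul_one]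
    have h1 := hP _ (hd1 r hr) _ (hd1 (r * r) (mul_mem hr hr))
    rw [hc, hc, mul_left_inj, mul_left_inj, mul_left_inj] at h1
    rcases h1 with h1 | h1 | h1
    · exact hr1 (mul_eq_right.1 (dg_inj h1).1)
    · exact hr2 (mul_eq_right.1 (dg_inj h1).1)
    · have h2 := mul_right_cancel (dg_inj h1).1
      exact hr1 (mul_eq_left.1 h2.symm)

theorem tw_zz [Nonempty ι] {R : Subgroup (GL ι F)} (h2 : (2 : F) ≠ 0) (hev : Even (Fintype.card ι))
    (hR : (-1 : GL ι F) ∈ R) : Tw (sl (wr R)) (zz : GL (ι ⊕ ι) F) := by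
  have hneg : (-1 : GL ι F) ≠ 1 := by
    intro h
    obtain ⟨i⟩ := ‹Nonempty ι›
    have h1 : (-1 : F) = 1 := by
      simpa using congrFun (congrFun (congrArg (fun g : GL ι F => (g : Matrix ι ι F)) h) i) i
    apply h2
    linear_combination -h1
  refine ⟨⟨dg_mem_wr.2 ⟨one_mem _, hR⟩, det_zz hev⟩, zz_mul, ?_, ?_, ?_⟩
  · intro h
    rw [zz, ← dg_one] at h
    exact hneg (dg_inj h).2
  · intro h
    rw [zz, ← dg_one, neg_dg] at h
    exact hneg (dg_inj h).1.symm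
  · have key : ∀ g ∈ sl (wr R), g * zz * g⁻¹ = zz ∨ g * zz * g⁻¹ = -(zz : GL (ι ⊕ ι) F) := by
      rintro g ⟨⟨a, -, b, -, rfl | rfl⟩, -⟩
      · left
        rw [zz, dg_inv, dg_mul, dg_mul]
        congr 1
        · group
        · rw [mul_neg, mul_one, neg_mul, mul_inv_cancel]
      · right
        rw [_root_.mul_inv_rev]
        calc dg a b * sw * zz * (sw⁻¹ * (dg a b)⁻¹) = dg a b * (sw * zz * sw⁻¹) * (dg a b)⁻¹ := by
              simp only [mul_assoc]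
          _ = -(dg a b * zz * (dg a b)⁻¹) := by rw [sw_zz, mul_neg, neg_mul]
          _ = -(zz : GL (ι ⊕ ι) F) := by
              rw [zz, dg_inv, dg_mul, dg_mul]
              congr 2
              · group
              · rw [mul_neg, mul_one, neg_mul, mul_inv_cancel]
    intro g hg h hh
    rcases key g hg with h1 | h1
    · left; exact h1
    · rcases key h hh with h3 | h3
      · right; left; exact h3
      · right; right; rw [h1, h3]

theorem neg_one_eq_sc : (-1 : GL ι F) = sc ι (-1) := by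
  apply Units.ext
  rw [sc_val, Units.val_neg, Units.val_neg, Units.val_one, Units.val_one, map_neg, map_one]

theorem neg_one_mem_of_blk {𝓕 : Fam F} {R : Subgroup (GL ι F)} (hG : Good 𝓕 R) (h : (-1 : GL ι F) ∈ 𝓕.L ι) :
    (-1 : GL ι F) ∈ R := by
  rw [neg_one_eq_sc] at h ⊢
  refine hG.scal _ h ⟨1, ?_⟩
  rw [pow_one, neg_one_sq]

/-- conjugation by the inverse, in a finite group -/
theorem conj_inv_mem {G : Type*} [Group G] [Finite G] {T : Subgroup G} {x : G}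
    (hx : ∀ t ∈ T, x * t * x⁻¹ ∈ T) : ∀ t ∈ T, x⁻¹ * t * x ∈ T := by
  have hpow : ∀ n : ℕ, ∀ t ∈ T, x ^ n * t * (x ^ n)⁻¹ ∈ T := by
    intro n
    induction n with
    | zero => intro t ht; simpa using ht
    | succ n ih =>
      intro t ht
      have := hx _ (ih t ht)
      rw [pow_succ']
      convert this using 1
      group
  intro t ht
  have h1 := hpow (orderOf x - 1) t ht
  have e : x ^ (orderOf x - 1) = x⁻¹ := by
    symm
    rw [inv_eq_iff_mul_eq_one, ← pow_succ', Nat.sub_add_cancel (orderOf_pos x), pow_orderOf_eq_one]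
  rwa [e, inv_inv] at h1

/-- **The normaliser of `(R ≀ 2) ∩ SL` is contained in `(R ≀ 2) Z`.** -/
theorem norm_sl [Finite F] [Nonempty ι] {𝓕 : Fam F} {R : Subgroup (GL ι F)} (h2 : (2 : F) ≠ 0)
    (hev : Even (Fintype.card ι)) (hG : Good 𝓕 R) (hneg : (-1 : GL ι F) ∈ 𝓕.L ι) {x : GL (ι ⊕ ι) F}
    (hx : x ∈ 𝓕.L (ι ⊕ ι)) (hxT : ∀ t ∈ sl (wr R), x * t * x⁻¹ ∈ sl (wr R)) :
    ∃ c : Fˣ, sc (ι ⊕ ι) c * x ∈ wr R := by
  have hR1 := neg_one_mem_of_blk hG hneg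
  have : Finite (GL (ι ⊕ ι) F) := inferInstance
  have hsw : (sw : GL (ι ⊕ ι) F) ∈ sl (wr R) := ⟨sw_mem_wr, det_sw hev⟩
  -- the core: elements commuting with `zz`
  have core : ∀ x : GL (ι ⊕ ι) F, x ∈ 𝓕.L (ι ⊕ ι) → (∀ t ∈ sl (wr R), x * t * x⁻¹ ∈ sl (wr R)) →
      x * zz * x⁻¹ = zz → ∃ c : Fˣ, sc (ι ⊕ ι) c * x ∈ wr R := by
    intro x hx hxT hz
    obtain ⟨a, b, rfl⟩ := exists_dg_of_comm h2 (x := x) (by
      calc x * zz = (x * zz * x⁻¹) * x := by group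
        _ = zz * x := by rw [hz])
    obtain ⟨ha, hb⟩ := (𝓕.blk ι a b).1 hx
    have hab : ∀ r ∈ R, a * r * a⁻¹ ∈ R ∧ b * r * b⁻¹ ∈ R := by
      intro r hr
      have h1 : dg r r⁻¹ ∈ sl (wr R) :=
        ⟨dg_mem_wr.2 ⟨hr, inv_mem hr⟩, by rw [det_dg, det_inv_eq, mul_inv_cancel₀ det_ne]⟩
      have h3 := (hxT _ h1).1
      rw [dg_inv, dg_mul, dg_mul, dg_mem_wr] at h3
      refine ⟨h3.1, ?_⟩
      have h4 := inv_mem h3.2
      have e : (b * r⁻¹ * b⁻¹)⁻¹ = b * r * b⁻¹ := by group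
      rwa [e] at h4
    obtain ⟨c1, hc1⟩ := hG.norm a ha fun r hr => (hab r hr).1
    obtain ⟨c2, hc2⟩ := hG.norm b hb fun r hr => (hab r hr).2
    have h5 := (hxT _ hsw).1
    have e5 : dg a b * sw * (dg a b)⁻¹ = dg (a * b⁻¹) (b * a⁻¹) * sw := by
      rw [dg_inv, mul_assoc, sw_dg, ← mul_assoc, dg_mul]
    rw [e5, dg_sw_mem_wr] at h5
    -- `c1⁻¹ c2 ∈ R`
    refine ⟨c2, ?_⟩
    rw [sc_sum, dg_mul, dg_mem_wr]
    refine ⟨?_, hc2⟩
    have e6 : sc ι c2 * a = (a * b⁻¹) * (sc ι c2 * b) := by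
      rw [← mul_assoc, ← sc_comm, mul_assoc, inv_mul_cancel_right]
    rw [e6]
    exact mul_mem h5.1 hc2
  have htw := (tw_zz (R := R) h2 hev hR1).conj hxT (conj_inv_mem hxT)
  rcases eq_or_of_dg hev hG.cen hG.three htw with h | h
  · exact core x hx hxT h
  · have hx' : sw * x ∈ 𝓕.L (ι ⊕ ι) := mul_mem (𝓕.sw_mem ι) hx
    obtain ⟨c, hc⟩ := core (sw * x) hx' (by
        intro t ht
        have h3 := mul_mem (mul_mem hsw (hxT t ht)) (inv_mem hsw)
        have e : sw * (x * t * x⁻¹) * sw⁻¹ = sw * x * t * (sw * x)⁻¹ := by group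
        rwa [e] at h3) (by
        calc sw * x * zz * (sw * x)⁻¹ = sw * (x * zz * x⁻¹) * sw⁻¹ := by group
          _ = -(sw * zz * sw⁻¹) := by rw [h, mul_neg, neg_mul]
          _ = zz := by rw [sw_zz, neg_neg])
    refine ⟨c, ?_⟩
    have h4 := mul_mem (inv_mem (sw_mem_wr (R := R))) hc
    have e : (sw : GL (ι ⊕ ι) F)⁻¹ * (sc (ι ⊕ ι) c * (sw * x)) = sc (ι ⊕ ι) c * x := by
      rw [← mul_assoc, ← mul_assoc, ← sc_comm, mul_assoc (sc (ι ⊕ ι) c), inv_mul_cancel, mul_one]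
    rwa [e] at h4

theorem dg_pow (a b : GL ι F) (n : ℕ) : dg a b ^ n = dg (a ^ n) (b ^ n) := by
  induction n with
  | zero => rw [pow_zero, pow_zero, pow_zero, dg_one]
  | succ n ih => rw [pow_succ, pow_succ, pow_succ, ih, dg_mul]

/-- **The induction step.** -/
theorem Good.step [Finite F] [Nonempty ι] {𝓕 : Fam F} {R : Subgroup (GL ι F)} (h2 : (2 : F) ≠ 0)
    (hev : Even (Fintype.card ι)) (hG : Good 𝓕 R) (hneg : (-1 : GL ι F) ∈ 𝓕.L ι) : Good 𝓕 (wr R) where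
  le := by
    rintro _ ⟨a, ha, b, hb, rfl | rfl⟩
    · exact (𝓕.blk ι a b).2 ⟨hG.le ha, hG.le hb⟩
    · exact mul_mem ((𝓕.blk ι a b).2 ⟨hG.le ha, hG.le hb⟩) (𝓕.sw_mem ι)
  two := by
    have key : ∀ a ∈ R, ∀ b ∈ R, ∃ k : ℕ, dg a b ^ 2 ^ k = 1 := by
      intro a ha b hb
      obtain ⟨k, hk⟩ := hG.two a ha
      obtain ⟨l, hl⟩ := hG.two b hb
      refine ⟨k + l, ?_⟩
      rw [dg_pow, pow_add, pow_mul, hk, one_pow, mul_comm, pow_mul, hl, one_pow, dg_one]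
    rintro _ ⟨a, ha, b, hb, rfl | rfl⟩
    · exact key a ha b hb
    · obtain ⟨k, hk⟩ := key (a * b) (mul_mem ha hb) (b * a) (mul_mem hb ha)
      refine ⟨k + 1, ?_⟩
      have e : (dg a b * sw) ^ 2 = dg (a * b) (b * a) := by
        rw [pow_two, mul_assoc, ← mul_assoc sw, sw_dg, mul_assoc (dg b a), sw_mul_sw, mul_one, dg_mul]
      rw [pow_succ', pow_mul, e, hk]
  scal := by
    intro c hc hk
    rw [sc_sum] at hc ⊢
    have h1 := hG.scal c ((𝓕.blk ι _ _).1 hc).1 hk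
    exact dg_mem_wr.2 ⟨h1, h1⟩
  norm := by
    intro x hx hxR
    refine norm_sl h2 hev hG hneg hx ?_
    rintro t ⟨ht, htd⟩
    refine ⟨hxR t ht, ?_⟩
    rw [Units.val_mul, Units.val_mul, det_mul, det_mul, htd, mul_one, det_inv_eq, mul_inv_cancel₀ det_ne]
  cen := by
    intro a haa hc
    have hR1 := neg_one_mem_of_blk hG hneg
    have hsw : (sw : GL (ι ⊕ ι) F) ∈ sl (wr R) := ⟨sw_mem_wr, det_sw hev⟩
    obtain ⟨a1, a2, rfl⟩ := exists_dg_of_comm h2 (hc zz ⟨dg_mem_wr.2 ⟨one_mem _, hR1⟩, det_zz hev⟩)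
    have h3 := hc sw hsw
    have h4 : dg a1 a2 * sw = dg a2 a1 * sw := by rw [h3, sw_dg]
    obtain ⟨rfl, -⟩ := dg_inj (mul_right_cancel h4)
    rw [dg_mul, ← dg_one] at haa
    rcases hG.cen a1 (dg_inj haa).1 (fun r hr => by
      have h5 := hc (dg r 1) ⟨dg_mem_wr.2 ⟨hr.1, one_mem _⟩, by
        rw [det_dg, hr.2, Units.val_one, det_one, mul_one]⟩
      rw [dg_mul, dg_mul] at h5
      exact (dg_inj h5).1) with h5 | h5
    · left; rw [h5, dg_one]
    · right; rw [h5, ← neg_dg, dg_one]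
  three := by
    obtain ⟨r, hr, hr1, hr2⟩ := hG.three
    refine ⟨dg r 1, ⟨dg_mem_wr.2 ⟨hr.1, one_mem _⟩, by
      rw [det_dg, hr.2, Units.val_one, det_one, mul_one]⟩, ?_, ?_⟩
    · intro h
      rw [← dg_one] at h
      exact hr1 (dg_inj h).1
    · intro h
      rw [← dg_one, dg_mul] at h
      exact hr2 (dg_inj h).1

/-- **`T = (R ≀ 2) ∩ SL` is its own normaliser in `L ∩ SL`**, if the degree is a power of 2. -/
theorem selfNorm [Finite F] [Nonempty ι] {𝓕 : Fam F} {R : Subgroup (GL ι F)} (h2 : (2 : F) ≠ 0)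
    (hev : Even (Fintype.card ι)) (hG : Good 𝓕 R) (hneg : (-1 : GL ι F) ∈ 𝓕.L ι) {m : ℕ}
    (hm : Fintype.card (ι ⊕ ι) = 2 ^ m) {x : GL (ι ⊕ ι) F}
    (hx : x ∈ sl (𝓕.L (ι ⊕ ι))) (hxT : ∀ t ∈ sl (wr R), x * t * x⁻¹ ∈ sl (wr R)) :
    x ∈ sl (wr R) := by
  obtain ⟨c, hc⟩ := norm_sl h2 hev hG hneg hx.1 hxT
  have hG' := hG.step h2 hev hneg
  have hcL : sc (ι ⊕ ι) c ∈ 𝓕.L (ι ⊕ ι) := by
    have h7 := mul_mem (hG'.le hc) (inv_mem hx.1)
    rwa [mul_inv_cancel_right] at h7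
  -- `c` has 2-power order
  have h3 : ∃ k : ℕ, c ^ 2 ^ k = 1 := by
    obtain ⟨k, hk⟩ := hG'.two _ hc
    refine ⟨m + k, ?_⟩
    have h4 := congrArg (fun g : GL (ι ⊕ ι) F => (g : Matrix (ι ⊕ ι) (ι ⊕ ι) F).det) hk
    simp only [Units.val_pow_eq_pow_val, Units.val_mul, det_pow, det_mul, det_sc, hx.2, mul_one, Units.val_one,
      det_one, hm] at h4
    apply Units.ext
    rw [Units.val_pow_eq_pow_val, Units.val_one, pow_add, pow_mul]
    exact h4
  have h5 := hG'.scal c hcL h3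
  refine ⟨?_, hx.2⟩
  have h6 := mul_mem (inv_mem h5) hc
  rwa [inv_mul_cancel_left] at h6

end Cfsg.Agent.H95.Wreath
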