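import Mathlib
import Cfsg.Agent.H95.Wreath

/-!
# The Sylow 2-subgroup `(F[J] ∩ L)₂ ⟨φ⟩` in degree two (helper95)

`J = [[0,-1],[1,0]]`, `φ = diag(1,-1)`. `R0` : the 2-elements of `L` commuting with `J`; `RR = R0 ⟨φ⟩`; `good` : it is
`Good` if `L` contains `J`, `φ`, a nonzero multiple of `1 + J` and an element of `F[J]` of determinant `-1`.
-/

set_option autoImplicit false

namespace Cfsg.Agent.H95.BaseTwo

open Matrix Cfsg.Agent.H95.Wreath

variable {F : Type*} [Field F]

/-- `[[0,-1],[1,0]]` -/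
def J : GL (Fin 2) F where
  val := !![0, -1; 1, 0]
  inv := !![0, 1; -1, 0]
  val_inv := by rw [Matrix.mul_fin_two, Matrix.one_fin_two]; simp
  inv_val := by rw [Matrix.mul_fin_two, Matrix.one_fin_two]; simp

/-- `diag(1,-1)` -/
def ph : GL (Fin 2) F where
  val := !![1, 0; 0, -1]
  inv := !![1, 0; 0, -1]
  val_inv := by rw [Matrix.mul_fin_two, Matrix.one_fin_two]; simp
  inv_val := by rw [Matrix.mul_fin_two, Matrix.one_fin_two]; simp

theorem J_val : ((J : GL (Fin 2) F) : Matrix (Fin 2) (Fin 2) F) = !![0, -1; 1, 0] := rfl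
theorem ph_val : ((ph : GL (Fin 2) F) : Matrix (Fin 2) (Fin 2) F) = !![1, 0; 0, -1] := rfl

theorem ph_mul : (ph : GL (Fin 2) F) * ph = 1 := by
  apply Units.ext
  rw [Units.val_mul, ph_val, Matrix.mul_fin_two, Units.val_one, Matrix.one_fin_two]; simp

theorem ph_inv : (ph : GL (Fin 2) F)⁻¹ = ph := by rw [inv_eq_iff_mul_eq_one, ph_mul]

theorem J_mul : (J : GL (Fin 2) F) * J = -1 := by
  apply Units.ext
  rw [Units.val_mul, J_val, Matrix.mul_fin_two, Units.val_neg, Units.val_one, Matrix.one_fin_two]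
  simp

theorem ph_J : (ph : GL (Fin 2) F) * J = -(J : GL (Fin 2) F) * ph := by
  apply Units.ext
  rw [Units.val_mul, Units.val_mul, Units.val_neg, J_val, ph_val, Matrix.mul_fin_two, Matrix.neg_mul,
    Matrix.mul_fin_two]
  simp

theorem det_J : ((J : GL (Fin 2) F) : Matrix (Fin 2) (Fin 2) F).det = 1 := by
  rw [J_val, Matrix.det_fin_two_of]; ring

theorem det_ph : ((ph : GL (Fin 2) F) : Matrix (Fin 2) (Fin 2) F).det = -1 := by
  rw [ph_val, Matrix.det_fin_two_of]; ring

/-- commuting with `J` -/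
theorem comm_J {g : GL (Fin 2) F} (hg : g * J = J * g) :
    ∃ x y : F, (g : Matrix (Fin 2) (Fin 2) F) = !![x, -y; y, x] := by
  have h1 := congrArg Units.val hg
  rw [Units.val_mul, Units.val_mul, J_val, Matrix.eta_fin_two (g : Matrix (Fin 2) (Fin 2) F), Matrix.mul_fin_two,
    Matrix.mul_fin_two] at h1
  have h00 := congrFun (congrFun h1 0) 0
  have h01 := congrFun (congrFun h1 0) 1
  simp at h00 h01
  refine ⟨g 0 0, g 1 0, ?_⟩
  ext i j
  fin_cases i <;> fin_cases j
  · rfl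
  · exact h00
  · rfl
  · exact h01.symm

theorem comm_J_of {g : GL (Fin 2) F} {x y : F} (h : (g : Matrix (Fin 2) (Fin 2) F) = !![x, -y; y, x]) :
    g * J = J * g := by
  apply Units.ext
  rw [Units.val_mul, Units.val_mul, J_val, h, Matrix.mul_fin_two, Matrix.mul_fin_two]
  simp

theorem comm_A {g k : GL (Fin 2) F} (hg : g * J = J * g) (hk : k * J = J * k) : g * k = k * g := by
  obtain ⟨x, y, h1⟩ := comm_J hg
  obtain ⟨z, w, h2⟩ := comm_J hk
  apply Units.ext
  rw [Units.val_mul, Units.val_mul, h1, h2, Matrix.mul_fin_two, Matrix.mul_fin_two]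
  ext i j
  fin_cases i <;> fin_cases j <;> simp <;> ring

/-- conjugation by `φ` -/
theorem ph_conj {g : GL (Fin 2) F} {x y : F} (h : (g : Matrix (Fin 2) (Fin 2) F) = !![x, -y; y, x]) :
    ((ph * g * ph : GL (Fin 2) F) : Matrix (Fin 2) (Fin 2) F) = !![x, y; -y, x] := by
  rw [Units.val_mul, Units.val_mul, ph_val, h, Matrix.mul_fin_two, Matrix.mul_fin_two]
  simp

/-- the 2-elements of `L` commuting with `J` -/
def R0 (L : Subgroup (GL (Fin 2) F)) : Subgroup (GL (Fin 2) F) where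
  carrier := {g | g ∈ L ∧ g * J = J * g ∧ ∃ k : ℕ, g ^ 2 ^ k = 1}
  mul_mem' := by
    rintro a b ⟨ha, haJ, k, hk⟩ ⟨hb, hbJ, l, hl⟩
    refine ⟨mul_mem ha hb, ?_, k + l, ?_⟩
    · rw [mul_assoc, hbJ, ← mul_assoc, haJ, mul_assoc]
    · have : Commute a b := comm_A haJ hbJ
      rw [this.mul_pow, pow_add, pow_mul, hk, one_pow, one_mul, mul_comm, pow_mul, hl, one_pow]
  one_mem' := ⟨one_mem _, by rw [one_mul, mul_one], 0, one_pow _⟩
  inv_mem' := by
    rintro a ⟨ha, haJ, k, hk⟩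
    refine ⟨inv_mem ha, ?_, k, by rw [inv_pow, hk, inv_one]⟩
    calc a⁻¹ * J = a⁻¹ * (J * a) * a⁻¹ := by group
      _ = a⁻¹ * (a * J) * a⁻¹ := by rw [haJ]
      _ = J * a⁻¹ := by group

theorem mem_R0 {L : Subgroup (GL (Fin 2) F)} {g : GL (Fin 2) F} :
    g ∈ R0 L ↔ g ∈ L ∧ g * J = J * g ∧ ∃ k : ℕ, g ^ 2 ^ k = 1 := Iff.rfl

theorem ph_comm {g : GL (Fin 2) F} (hg : g * J = J * g) : (ph * g * ph) * J = J * (ph * g * ph) := by
  obtain ⟨x, y, h⟩ := comm_J hg
  refine comm_J_of (x := x) (y := -y) ?_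
  rw [ph_conj h, neg_neg]

theorem ph_pow (g : GL (Fin 2) F) (n : ℕ) : (ph * g * ph) ^ n = ph * g ^ n * ph := by
  induction n with
  | zero => rw [pow_zero, pow_zero, mul_one, ph_mul]
  | succ n ih =>
    rw [pow_succ, ih, pow_succ]
    calc ph * g ^ n * ph * (ph * g * ph) = ph * g ^ n * (ph * ph) * g * ph := by simp only [mul_assoc]
      _ = ph * (g ^ n * g) * ph := by rw [ph_mul, mul_one]; simp only [mul_assoc]

theorem ph_R0 {L : Subgroup (GL (Fin 2) F)} (hph : ph ∈ L) {g : GL (Fin 2) F} (hg : g ∈ R0 L) :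
    ph * g * ph ∈ R0 L := by
  obtain ⟨h1, h2, k, hk⟩ := hg
  exact ⟨mul_mem (mul_mem hph h1) hph, ph_comm h2, k, by rw [ph_pow, hk, mul_one, ph_mul]⟩

/-- `R0 ⟨φ⟩` -/
def RR (L : Subgroup (GL (Fin 2) F)) (hph : ph ∈ L) : Subgroup (GL (Fin 2) F) where
  carrier := {g | g ∈ R0 L ∨ ∃ a ∈ R0 L, g = a * ph}
  mul_mem' := by
    rintro g k (hg | ⟨a, ha, rfl⟩) (hk | ⟨b, hb, rfl⟩)
    · exact Or.inl (mul_mem hg hk)
    · exact Or.inr ⟨g * b, mul_mem hg hb, (mul_assoc _ _ _).symm⟩
    · refine Or.inr ⟨a * (ph * k * ph), mul_mem ha (ph_R0 hph hk), ?_⟩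
      calc a * ph * k = a * (ph * k * (ph * ph)) := by rw [ph_mul, mul_one, mul_assoc]
        _ = a * (ph * k * ph) * ph := by simp only [mul_assoc]
    · refine Or.inl ?_
      have e : a * ph * (b * ph) = a * (ph * b * ph) := by simp only [mul_assoc]
      rw [e]
      exact mul_mem ha (ph_R0 hph hb)
  one_mem' := Or.inl (one_mem _)
  inv_mem' := by
    rintro g (hg | ⟨a, ha, rfl⟩)
    · exact Or.inl (inv_mem hg)
    · refine Or.inr ⟨ph * a⁻¹ * ph, ph_R0 hph (inv_mem ha), ?_⟩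
      rw [_root_.mul_inv_rev, ph_inv, mul_assoc (ph * a⁻¹), ph_mul, mul_one]

theorem ph_mem_RR {L : Subgroup (GL (Fin 2) F)} {hph : ph ∈ L} : ph ∈ RR L hph :=
  Or.inr ⟨1, one_mem _, (one_mul _).symm⟩

/-- the 2-part and the odd part of an element -/
theorem exists_parts {G : Type*} [Group G] [Finite G] (x : G) :
    ∃ e : ℕ, ∃ m : ℕ, Odd m ∧ (x ^ e) ^ m = 1 ∧ ∃ k : ℕ, (x * (x ^ e)⁻¹) ^ 2 ^ k = 1 := by
  obtain ⟨k, m, hm, hkm⟩ := Nat.exists_eq_two_pow_mul_odd (n := orderOf x) (orderOf_pos x).ne'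
  have hcop : Nat.Coprime (2 ^ k) m := Nat.Coprime.pow_left k (Nat.coprime_two_left.2 hm)
  obtain ⟨e, he1, he2⟩ := Nat.chineseRemainder hcop 0 1
  refine ⟨e, m, hm, ?_, k, ?_⟩
  · rw [← pow_mul, ← orderOf_dvd_iff_pow_eq_one, hkm]
    exact mul_dvd_mul_right ((Nat.modEq_zero_iff_dvd).1 he1) m
  · have hc : Commute x (x ^ e)⁻¹ := (Commute.refl x).pow_right e |>.inv_right
    rw [hc.mul_pow, inv_pow, mul_inv_eq_one, ← pow_mul, pow_eq_pow_iff_modEq, hkm]
    have h3 : 1 ≡ e [MOD m] := he2.symm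
    have h4 := h3.mul_left' (2 ^ k)
    rw [mul_one, mul_comm (2 ^ k) e] at h4
    exact h4

theorem odd_two_pow {G : Type*} [Group G] {t : G} {m k : ℕ} (hm : Odd m) (h1 : t ^ m = 1)
    (h2 : t ^ 2 ^ k = 1) : t = 1 := by
  rw [← orderOf_eq_one_iff]
  have h3 := orderOf_dvd_of_pow_eq_one h1
  have h4 := orderOf_dvd_of_pow_eq_one h2
  exact Nat.eq_one_of_dvd_coprimes (Nat.Coprime.pow_right k (Nat.coprime_two_right.2 hm)) h3 h4

/-- an odd power of an element which is a 2-element -/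
theorem exists_odd_pow {G : Type*} [Group G] [Finite G] (x : G) : ∃ m : ℕ, Odd m ∧ ∃ k : ℕ, (x ^ m) ^ 2 ^ k = 1 := by
  obtain ⟨k, m, hm, hkm⟩ := Nat.exists_eq_two_pow_mul_odd (n := orderOf x) (orderOf_pos x).ne'
  refine ⟨m, hm, k, ?_⟩
  rw [← pow_mul, mul_comm, ← hkm, pow_orderOf_eq_one]

theorem pow_comm_J {g : GL (Fin 2) F} (hg : g * J = J * g) (n : ℕ) : g ^ n * J = J * g ^ n := by
  have : Commute g J := hg
  exact this.pow_left n

/-- an element `β + γ J` of `R0` with `β, γ ≠ 0` -/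
theorem exists_b [Finite F] {L : Subgroup (GL (Fin 2) F)} (h2 : (2 : F) ≠ 0)
    (h1 : ∃ g ∈ L, ∃ s : F, s ≠ 0 ∧ (g : Matrix (Fin 2) (Fin 2) F) = !![s, -s; s, s]) :
    ∃ b ∈ R0 L, ∃ x y : F, x ≠ 0 ∧ y ≠ 0 ∧ (b : Matrix (Fin 2) (Fin 2) F) = !![x, -y; y, x] := by
  obtain ⟨g, hg, s, hs, hgs⟩ := h1
  have hgJ := comm_J_of hgs
  obtain ⟨m, hm, k, hk⟩ := exists_odd_pow g
  refine ⟨g ^ m, ⟨pow_mem hg m, pow_comm_J hgJ m, k, hk⟩, ?_⟩
  -- odd powers
  have key : ∀ n : ℕ, ∃ x y : F, x ≠ 0 ∧ (y = x ∨ y = -x) ∧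
      ((g ^ (2 * n + 1) : GL (Fin 2) F) : Matrix (Fin 2) (Fin 2) F) = !![x, -y; y, x] := by
    intro n
    induction n with
    | zero => exact ⟨s, s, hs, Or.inl rfl, by rw [mul_zero, zero_add, pow_one, hgs]⟩
    | succ n ih =>
      obtain ⟨x, y, hx, hy, h⟩ := ih
      refine ⟨-(2 * s ^ 2 * y), 2 * s ^ 2 * x, ?_, ?_, ?_⟩
      · have hy0 : y ≠ 0 := by
          rcases hy with rfl | rfl
          · exact hx
          · exact neg_ne_zero.2 hx
        exact neg_ne_zero.2 (mul_ne_zero (mul_ne_zero h2 (pow_ne_zero 2 hs)) hy0)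
      · rcases hy with rfl | rfl
        · right; ring
        · left; ring
      · rw [show 2 * (n + 1) + 1 = (2 * n + 1) + 1 + 1 by ring, pow_succ, pow_succ, Units.val_mul, Units.val_mul, h,
          hgs, Matrix.mul_fin_two, Matrix.mul_fin_two]
        ext i j
        fin_cases i <;> fin_cases j <;> simp <;> ring
  obtain ⟨n, rfl⟩ := hm
  obtain ⟨x, y, hx, hy, h⟩ := key n
  refine ⟨x, y, hx, ?_, h⟩
  rcases hy with rfl | rfl
  · exact hx
  · exact neg_ne_zero.2 hx

/-- an element of `R0` of determinant `-1` -/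
theorem exists_s [Finite F] {L : Subgroup (GL (Fin 2) F)}
    (h1 : ∃ g ∈ L, ∃ x y : F, x ^ 2 + y ^ 2 = -1 ∧ (g : Matrix (Fin 2) (Fin 2) F) = !![x, -y; y, x]) :
    ∃ b ∈ R0 L, (b : Matrix (Fin 2) (Fin 2) F).det = -1 := by
  obtain ⟨g, hg, x, y, hxy, hgs⟩ := h1
  have hgJ := comm_J_of hgs
  obtain ⟨m, hm, k, hk⟩ := exists_odd_pow g
  refine ⟨g ^ m, ⟨pow_mem hg m, pow_comm_J hgJ m, k, hk⟩, ?_⟩
  have hd : (g : Matrix (Fin 2) (Fin 2) F).det = -1 := by
    rw [hgs, Matrix.det_fin_two_of, ← hxy]; ring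
  rw [Units.val_pow_eq_pow_val, det_pow, hd, hm.neg_one_pow]

theorem ne_neg (h2 : (2 : F) ≠ 0) {g : GL (Fin 2) F} : g ≠ -g := by
  intro h
  have h1 := congrArg (fun k : GL (Fin 2) F => (k : Matrix (Fin 2) (Fin 2) F)) h
  simp only [Units.val_neg] at h1
  have hd : (g : Matrix (Fin 2) (Fin 2) F).det ≠ 0 := det_ne
  have h0 : (g : Matrix (Fin 2) (Fin 2) F) = 0 := by
    ext i j
    have h3 := congrFun (congrFun h1 i) j
    rw [Matrix.neg_apply] at h3
    have h4 : 2 * (g : Matrix (Fin 2) (Fin 2) F) i j = 0 := by linear_combination h3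
    rcases mul_eq_zero.1 h4 with h5 | h5
    · exact absurd h5 h2
    · rw [h5]; rfl
  rw [h0] at hd
  simp at hd

/-- elements commuting with `J` and `φ` are scalar -/
theorem eq_sc (h2 : (2 : F) ≠ 0) {g : GL (Fin 2) F} (hJ : g * J = J * g) (hp : ph * g * ph = g) :
    ∃ c : Fˣ, g = sc (Fin 2) c := by
  obtain ⟨x, y, h⟩ := comm_J hJ
  have h1 := ph_conj h
  rw [hp, h] at h1
  have h3 := congrFun (congrFun h1 1) 0
  simp at h3
  have hy : y = 0 := by
    have h4 : 2 * y = 0 := by linear_combination h3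
    rcases mul_eq_zero.1 h4 with h5 | h5
    · exact absurd h5 h2
    · exact h5
  subst hy
  have hd : (g : Matrix (Fin 2) (Fin 2) F).det ≠ 0 := det_ne
  rw [h, Matrix.det_fin_two_of] at hd
  have hx : x ≠ 0 := by
    rintro rfl
    apply hd; ring
  refine ⟨Units.mk0 x hx, ?_⟩
  apply Units.ext
  rw [sc_val, h, Algebra.algebraMap_eq_smul_one, Matrix.one_fin_two, Matrix.smul_of]
  ext i j
  fin_cases i <;> fin_cases j <;> simp

theorem good [Finite F] (𝓕 : Fam F) (h2 : (2 : F) ≠ 0) (hph : ph ∈ 𝓕.L (Fin 2)) (hJ : J ∈ 𝓕.L (Fin 2))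
    (h1 : ∃ g ∈ 𝓕.L (Fin 2), ∃ s : F, s ≠ 0 ∧ (g : Matrix (Fin 2) (Fin 2) F) = !![s, -s; s, s])
    (h3 : ∃ g ∈ 𝓕.L (Fin 2), ∃ x y : F, x ^ 2 + y ^ 2 = -1 ∧ (g : Matrix (Fin 2) (Fin 2) F) = !![x, -y; y, x]) :
    Good 𝓕 (RR (𝓕.L (Fin 2)) hph) := by
  set L := 𝓕.L (Fin 2) with hL
  have hJR0 : J ∈ R0 L := by
    refine ⟨hJ, rfl, 2, ?_⟩
    rw [show (2 : ℕ) ^ 2 = 2 * 2 by norm_num, pow_mul, pow_two J, J_mul, neg_one_sq]
  have hJR : J ∈ RR L hph := Or.inl hJR0
  obtain ⟨b, hb, bx, by', hbx, hby, hbm⟩ := exists_b h2 h1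
  obtain ⟨s, hs, hsd⟩ := exists_s h3
  have hfin : Finite (GL (Fin 2) F) := inferInstance
  -- elements of `R` conjugate `J` to `± J`
  have hcl : ∀ r ∈ RR L hph, r * J * r⁻¹ = J ∨ r * J * r⁻¹ = -(J : GL (Fin 2) F) := by
    rintro r (hr | ⟨a, ha, rfl⟩)
    · left
      rw [hr.2.1, mul_inv_cancel_right]
    · right
      calc a * ph * J * (a * ph)⁻¹ = a * (ph * J) * ph⁻¹ * a⁻¹ := by group
        _ = -(a * J * a⁻¹) := by
          rw [ph_J, neg_mul, mul_neg, neg_mul, neg_mul]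
          congr 1
          group
        _ = -(J : GL (Fin 2) F) := by rw [ha.2.1, mul_inv_cancel_right]
  -- the core
  have core : ∀ x ∈ L, (∀ r ∈ RR L hph, x * r * x⁻¹ ∈ RR L hph) → x * J = J * x →
      ∃ c : Fˣ, sc (Fin 2) c * x ∈ RR L hph := by
    intro x hx hxR hxJ
    have hxi : x⁻¹ * J = J * x⁻¹ := by
      calc x⁻¹ * J = x⁻¹ * (J * x) * x⁻¹ := by group
        _ = x⁻¹ * (x * J) * x⁻¹ := by rw [hxJ]
        _ = J * x⁻¹ := by group
    -- `t = x x^{-φ}` is a 2-element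
    set t := x * (ph * x⁻¹ * ph) with ht
    have htR : t * ph ∈ RR L hph := by
      have h4 := hxR ph ph_mem_RR
      have e : t * ph = x * ph * x⁻¹ := by
        rw [ht]
        calc x * (ph * x⁻¹ * ph) * ph = x * ph * x⁻¹ * (ph * ph) := by group
          _ = x * ph * x⁻¹ := by rw [ph_mul, mul_one]
      rwa [e]
    have htJ : t * J = J * t := by
      rw [ht, mul_assoc, ph_comm hxi, ← mul_assoc, hxJ, mul_assoc]
    have ht0 : t ∈ R0 L := by
      rcases htR with h4 | ⟨a, ha, h4⟩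
      · exfalso
        -- `φ` would commute with `J`
        have h5 : t⁻¹ * J = J * t⁻¹ := by
          calc t⁻¹ * J = t⁻¹ * (J * t) * t⁻¹ := by group
            _ = t⁻¹ * (t * J) * t⁻¹ := by rw [htJ]
            _ = J * t⁻¹ := by group
        have h6 : (ph : GL (Fin 2) F) * J = J * ph := by
          calc ph * J = t⁻¹ * ((t * ph) * J) := by group
            _ = t⁻¹ * (J * (t * ph)) := by rw [h4.2.1]
            _ = (t⁻¹ * J) * (t * ph) := by group
            _ = J * ph := by rw [h5]; group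
        have h7 : -((J : GL (Fin 2) F) * ph) = J * ph := by rw [← neg_mul, ← ph_J, h6]
        exact ne_neg h2 h7.symm
      · rw [mul_right_cancel h4]; exact ha
    obtain ⟨k, hk⟩ := ht0.2.2
    obtain ⟨e, m, hm, hem, l, hl⟩ := exists_parts x
    -- the odd part of `x` is scalar
    have hvJ : x ^ e * J = J * x ^ e := pow_comm_J hxJ e
    have hviJ : (x ^ e)⁻¹ * J = J * (x ^ e)⁻¹ := by
      calc (x ^ e)⁻¹ * J = (x ^ e)⁻¹ * (J * x ^ e) * (x ^ e)⁻¹ := by group
        _ = (x ^ e)⁻¹ * (x ^ e * J) * (x ^ e)⁻¹ := by rw [hvJ]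
        _ = J * (x ^ e)⁻¹ := by group
    have hte : x ^ e * (ph * (x ^ e)⁻¹ * ph) = t ^ e := by
      have hc : Commute x (ph * x⁻¹ * ph) := comm_A hxJ (ph_comm hxi)
      rw [ht, hc.mul_pow, ph_pow, inv_pow]
    have hone : x ^ e * (ph * (x ^ e)⁻¹ * ph) = 1 := by
      refine odd_two_pow (m := m) (k := k) hm ?_ ?_
      · have hc : Commute (x ^ e) (ph * (x ^ e)⁻¹ * ph) := comm_A hvJ (ph_comm hviJ)
        rw [hc.mul_pow, hem, one_mul, ph_pow, inv_pow, hem, inv_one, mul_one, ph_mul]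
      · rw [hte, ← pow_mul, mul_comm, pow_mul, hk, one_pow]
    have hfix : ph * x ^ e * ph = x ^ e := by
      have h5 := eq_inv_of_mul_eq_one_left hone
      rw [_root_.mul_inv_rev, _root_.mul_inv_rev, ph_inv, inv_inv, ← mul_assoc] at h5
      exact h5.symm
    obtain ⟨c, hc⟩ := eq_sc h2 hvJ hfix
    refine ⟨c⁻¹, Or.inl ?_⟩
    have e1 : sc (Fin 2) c⁻¹ * x = x * (x ^ e)⁻¹ := by
      rw [sc_inv, ← hc]
      exact ((Commute.refl x).pow_left e).inv_left.eq
    rw [e1]
    refine ⟨mul_mem hx (inv_mem (pow_mem hx e)), ?_, l, hl⟩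
    rw [mul_assoc, hviJ, ← mul_assoc, hxJ, mul_assoc]
  refine ⟨?_, ?_, ?_, ?_, ?_, ?_⟩
  · rintro g (hg | ⟨a, ha, rfl⟩)
    · exact hg.1
    · exact mul_mem ha.1 hph
  · rintro g (hg | ⟨a, ha, rfl⟩)
    · exact hg.2.2
    · obtain ⟨k, hk⟩ := (mul_mem ha (ph_R0 hph ha)).2.2
      refine ⟨k + 1, ?_⟩
      have e : (a * ph) ^ 2 = a * (ph * a * ph) := by rw [pow_two]; simp only [mul_assoc]
      rw [pow_succ', pow_mul, e, hk]
  · intro c hc hk
    refine Or.inl ⟨hc, sc_comm c J, ?_⟩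
    obtain ⟨k, hk⟩ := hk
    exact ⟨k, by rw [← sc_pow, hk, sc_one]⟩
  · intro x hx hxR
    have hxi := conj_inv_mem (T := RR L hph) (x := x) hxR
    -- `x J x⁻¹ = ± J`
    have hpm : x * J * x⁻¹ = J ∨ x * J * x⁻¹ = -(J : GL (Fin 2) F) := by
      have hb' := hcl _ (hxi b (Or.inl hb))
      have hb'' : b * (x * J * x⁻¹) * b⁻¹ = x * J * x⁻¹ ∨ b * (x * J * x⁻¹) * b⁻¹ = -(x * J * x⁻¹) := by
        rcases hb' with h4 | h4
        · left
          calc b * (x * J * x⁻¹) * b⁻¹ = x * ((x⁻¹ * b * x) * J * (x⁻¹ * b * x)⁻¹) * x⁻¹ := by group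
            _ = x * J * x⁻¹ := by rw [h4]
        · right
          calc b * (x * J * x⁻¹) * b⁻¹ = x * ((x⁻¹ * b * x) * J * (x⁻¹ * b * x)⁻¹) * x⁻¹ := by group
            _ = -(x * J * x⁻¹) := by rw [h4, mul_neg, neg_mul]
      have hsq : (x * J * x⁻¹) * (x * J * x⁻¹) = -1 := by
        calc (x * J * x⁻¹) * (x * J * x⁻¹) = x * (J * J) * x⁻¹ := by group
          _ = -1 := by rw [J_mul, mul_neg, mul_one, neg_mul, mul_inv_cancel]
      rcases hxR J hJR with h4 | ⟨a, ha, h4⟩
      · -- in `R0`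
        obtain ⟨u, v, huv⟩ := comm_J h4.2.1
        have h5 := congrArg (fun k : GL (Fin 2) F => (k : Matrix (Fin 2) (Fin 2) F)) hsq
        simp only [Units.val_mul (x * J * x⁻¹) (x * J * x⁻¹)] at h5
        rw [huv, Matrix.mul_fin_two, Units.val_neg, Units.val_one, Matrix.one_fin_two] at h5
        have h00 := congrFun (congrFun h5 0) 0
        have h10 := congrFun (congrFun h5 1) 0
        simp at h00 h10
        have huv0 : 2 * (u * v) = 0 := by linear_combination h10
        rcases mul_eq_zero.1 huv0 with h6 | h6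
        · exact absurd h6 h2
        rcases mul_eq_zero.1 h6 with rfl | rfl
        · have h7 : (v - 1) * (v + 1) = 0 := by linear_combination -h00
          rcases mul_eq_zero.1 h7 with h8 | h8
          · left
            apply Units.ext
            rw [huv, sub_eq_zero.1 h8, J_val]
          · right
            apply Units.ext
            rw [huv, eq_neg_of_add_eq_zero_left h8, Units.val_neg, J_val]
            simp
        · exfalso
          have hu : u ≠ 0 := by
            rintro rfl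
            simp at h00
          have h7 : x * J * x⁻¹ = sc (Fin 2) (Units.mk0 u hu) := by
            apply Units.ext
            rw [huv, sc_val, Algebra.algebraMap_eq_smul_one, Matrix.one_fin_two, Matrix.smul_of]
            ext i j
            fin_cases i <;> fin_cases j <;> simp
          have h8 : (J : GL (Fin 2) F) = sc (Fin 2) (Units.mk0 u hu) := by
            calc J = x⁻¹ * (x * J * x⁻¹) * x := by group
              _ = x⁻¹ * sc (Fin 2) (Units.mk0 u hu) * x := by rw [h7]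
              _ = sc (Fin 2) (Units.mk0 u hu) := by rw [← sc_comm, inv_mul_cancel_right]
          have h9 := congrFun (congrFun (congrArg (fun k : GL (Fin 2) F => (k : Matrix (Fin 2) (Fin 2) F)) h8) 1) 0
          rw [J_val, sc_val, Algebra.algebraMap_eq_smul_one] at h9
          simp at h9
      · exfalso
        have hba : b * a = a * b := comm_A hb.2.1 ha.2.1
        have e1 : b * (a * ph) * b⁻¹ = a * (b * (ph * b⁻¹ * ph)) * ph := by
          calc b * (a * ph) * b⁻¹ = (b * a) * ph * b⁻¹ := by simp only [mul_assoc]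
            _ = a * b * ph * b⁻¹ * (ph * ph) := by rw [hba, ph_mul, mul_one]
            _ = a * (b * (ph * b⁻¹ * ph)) * ph := by simp only [mul_assoc]
        have e2 : (ph * b⁻¹ * ph)⁻¹ = ph * b * ph := by
          rw [_root_.mul_inv_rev, _root_.mul_inv_rev, ph_inv, inv_inv, ← mul_assoc]
        rw [h4, e1] at hb''
        have hm : (b : Matrix (Fin 2) (Fin 2) F) = ((ph * b * ph : GL (Fin 2) F) : Matrix (Fin 2) (Fin 2) F) ∨
            (b : Matrix (Fin 2) (Fin 2) F) = -((ph * b * ph : GL (Fin 2) F) : Matrix (Fin 2) (Fin 2) F) := by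
          rcases hb'' with h5 | h5
          · left
            have h6 : b * (ph * b⁻¹ * ph) = 1 := mul_eq_left.1 (mul_right_cancel h5)
            have h7 := eq_inv_of_mul_eq_one_left h6
            rw [e2] at h7
            exact congrArg Units.val h7
          · right
            have h6 : b * (ph * b⁻¹ * ph) = -1 := by
              have h8 : a * (b * (ph * b⁻¹ * ph)) * ph = (a * -1) * ph := by
                rw [h5, mul_neg, mul_one, neg_mul]
              exact mul_left_cancel (mul_right_cancel h8)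
            have h7 : -b * (ph * b⁻¹ * ph) = 1 := by rw [neg_mul, h6, neg_neg]
            have h8 := eq_inv_of_mul_eq_one_left h7
            rw [e2] at h8
            rw [← h8, Units.val_neg, neg_neg]
        rw [ph_conj hbm, hbm] at hm
        rcases hm with h5 | h5
        · have h6 := congrFun (congrFun h5 1) 0
          simp at h6
          have h7 : 2 * by' = 0 := by linear_combination h6
          rcases mul_eq_zero.1 h7 with h8 | h8
          · exact h2 h8
          · exact hby h8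
        · have h6 := congrFun (congrFun h5 0) 0
          simp at h6
          have h7 : 2 * bx = 0 := by linear_combination h6
          rcases mul_eq_zero.1 h7 with h8 | h8
          · exact h2 h8
          · exact hbx h8
    rcases hpm with h4 | h4
    · exact core x hx hxR (by
        calc x * J = (x * J * x⁻¹) * x := by group
          _ = J * x := by rw [h4])
    · have hpx : ph * x ∈ L := mul_mem hph hx
      obtain ⟨c, hc⟩ := core (ph * x) hpx (by
          intro r hr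
          have h5 := mul_mem (mul_mem (ph_mem_RR (hph := hph)) (hxR r hr)) (inv_mem (ph_mem_RR (hph := hph)))
          have e : ph * (x * r * x⁻¹) * ph⁻¹ = ph * x * r * (ph * x)⁻¹ := by group
          rwa [e] at h5) (by
          calc ph * x * J = ph * (x * J * x⁻¹) * x := by group
            _ = J * (ph * x) := by
              rw [h4, mul_neg, ph_J, neg_mul, neg_mul, neg_mul, neg_neg, mul_assoc])
      refine ⟨c, ?_⟩
      have h5 := mul_mem (inv_mem (ph_mem_RR (hph := hph))) hc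
      have e : ph⁻¹ * (sc (Fin 2) c * (ph * x)) = sc (Fin 2) c * x := by
        rw [← mul_assoc, ← mul_assoc, ← sc_comm, mul_assoc (sc (Fin 2) c), inv_mul_cancel, mul_one]
      rwa [e] at h5
  · intro a haa hc
    have haJ : a * J = J * a := hc J ⟨hJR, det_J⟩
    obtain ⟨u, v, huv⟩ := comm_J haJ
    have hsp : s * ph ∈ sl (RR L hph) :=
      ⟨Or.inr ⟨s, hs, rfl⟩, by rw [Units.val_mul, det_mul, hsd, det_ph, neg_one_mul, neg_neg]⟩
    have h5 := hc _ hsp
    have h6 : a * s = s * a := comm_A haJ hs.2.1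
    have h7 : a * ph = ph * a := by
      have h8 : s * (a * ph) = s * (ph * a) := by
        rw [← mul_assoc, ← h6, mul_assoc, h5, mul_assoc]
      exact mul_left_cancel h8
    have h8 : ph * a * ph = a := by rw [← h7, mul_assoc, ph_mul, mul_one]
    have h9 := ph_conj huv
    rw [h8, huv] at h9
    have h10 := congrFun (congrFun h9 1) 0
    simp at h10
    have hv : v = 0 := by
      have h11 : 2 * v = 0 := by linear_combination h10
      rcases mul_eq_zero.1 h11 with h12 | h12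
      · exact absurd h12 h2
      · exact h12
    subst hv
    have h11 := congrArg (fun k : GL (Fin 2) F => (k : Matrix (Fin 2) (Fin 2) F)) haa
    simp only [Units.val_mul a a] at h11
    rw [huv, Matrix.mul_fin_two, Units.val_one, Matrix.one_fin_two] at h11
    have h12 := congrFun (congrFun h11 0) 0
    simp at h12
    have h13 : (u - 1) * (u + 1) = 0 := by linear_combination h12
    rcases mul_eq_zero.1 h13 with h14 | h14
    · left
      apply Units.ext
      rw [huv, sub_eq_zero.1 h14, Units.val_one, Matrix.one_fin_two]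
      simp
    · right
      apply Units.ext
      rw [huv, eq_neg_of_add_eq_zero_left h14, Units.val_neg, Units.val_one, Matrix.one_fin_two]
      simp
  · refine ⟨J, ⟨hJR, det_J⟩, ?_, ?_⟩
    · intro h
      have h5 := congrFun (congrFun (congrArg (fun k : GL (Fin 2) F => (k : Matrix (Fin 2) (Fin 2) F)) h) 1) 0
      rw [J_val, Units.val_one] at h5
      simp at h5
    · rw [J_mul]
      intro h
      exact ne_neg h2 h.symm

end Cfsg.Agent.H95.BaseTwo
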