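import Mathlib
import Cfsg.Prelude.Def_Classical
import Cfsg.Agent.LieClassical.HermBasic
import Cfsg.Agent.LieClassical.GUOrder
import Cfsg.Agent.H94.Pronormal
import Cfsg.Agent.H95.Wreath
import Cfsg.Agent.H95.BaseTwo
import Cfsg.Agent.H95.SelfNorm

/-!
# Self-normalising Sylow 2-subgroups of `PSL_{2^w}(q)` and `PSU_{2^w}(q)`, `w ≥ 2`, `q` odd (helper95)
-/

set_option autoImplicit false

namespace Cfsg.Agent.H95.OddNorm

open Matrix Cfsg.Agent.H95.Wreath Cfsg.Agent.LieClassical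

variable {F : Type*} [Field F]

theorem exists_good [Finite F] (h2 : (2 : F) ≠ 0) (𝓕 : Fam F)
    (hneg : ∀ (ι : Type) [Fintype ι] [DecidableEq ι], (-1 : GL ι F) ∈ 𝓕.L ι)
    {R : Subgroup (GL (Fin 2) F)} (hR : Good 𝓕 R) (k : ℕ) :
    ∃ (ι : Type) (_ : Fintype ι) (_ : DecidableEq ι) (_ : Nonempty ι) (R : Subgroup (GL ι F)),
      Fintype.card ι = 2 ^ (k + 1) ∧ Good 𝓕 R := by
  induction k with
  | zero => exact ⟨Fin 2, inferInstance, inferInstance, inferInstance, R, by simp, hR⟩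
  | succ k ih =>
    obtain ⟨ι, _, _, _, R, hc, hG⟩ := ih
    refine ⟨ι ⊕ ι, inferInstance, inferInstance, inferInstance, wr R, ?_, ?_⟩
    · rw [Fintype.card_sum, hc]; ring
    · exact hG.step h2 (by rw [hc, pow_succ]; exact even_two.mul_left _) (hneg ι)

/-- the embedding of `SL` into a reindexed `GL` -/
def emb {n κ : Type} [Fintype n] [DecidableEq n] [Fintype κ] [DecidableEq κ] (e : n ≃ κ) :
    SpecialLinearGroup n F →* GL κ F :=
  (Units.mapEquiv (Matrix.reindexAlgEquiv F F e).toMulEquiv).toMonoidHom.comp SpecialLinearGroup.toGL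

section

variable {n κ : Type} [Fintype n] [DecidableEq n] [Fintype κ] [DecidableEq κ] (e : n ≃ κ)

theorem emb_val (g : SpecialLinearGroup n F) : ((emb e g : GL κ F) : Matrix κ κ F) = reindex e e (g : Matrix n n F) :=
  rfl

theorem emb_inj : Function.Injective (emb (F := F) e) := by
  intro a b h
  have h1 := congrArg (fun g : GL κ F => (g : Matrix κ κ F)) h
  simp only [emb_val] at h1
  exact Subtype.ext ((reindex e e).injective h1)

theorem mem_range_emb (g : GL κ F) : g ∈ (emb (F := F) e).range ↔ (g : Matrix κ κ F).det = 1 := by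
  constructor
  · rintro ⟨h, rfl⟩
    rw [emb_val, det_reindex_self]
    exact h.2
  · intro h
    refine ⟨⟨(reindex e e).symm (g : Matrix κ κ F), ?_⟩, ?_⟩
    · rw [← det_reindex_self e, Equiv.apply_symm_apply, h]
    · apply Units.ext
      exact Equiv.apply_symm_apply (reindex e e) _

end

/-- all matrices -/
def famGL : Fam F where
  L := fun ι _ _ => ⊤
  blk := by simp
  sw_mem := by simp

/-- unitary matrices -/
def famU (τ : F →+* F) : Fam F where
  L := fun ι _ _ =>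
    { carrier := {g | (g : Matrix ι ι F)ᵀ * (g : Matrix ι ι F).map τ = 1}
      mul_mem' := by
        intro a b ha hb
        show ((a * b : GL ι F) : Matrix ι ι F)ᵀ * ((a * b : GL ι F) : Matrix ι ι F).map τ = 1
        rw [Units.val_mul, transpose_mul, Matrix.map_mul, Matrix.mul_assoc, ← Matrix.mul_assoc _ _ (Matrix.map _ τ),
          show (a : Matrix ι ι F)ᵀ * (a : Matrix ι ι F).map τ = 1 from ha, Matrix.one_mul]
        exact hb
      one_mem' := by
        show ((1 : GL ι F) : Matrix ι ι F)ᵀ * ((1 : GL ι F) : Matrix ι ι F).map τ = 1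
        rw [Units.val_one, transpose_one, Matrix.map_one τ (map_zero τ) (map_one τ), Matrix.one_mul]
      inv_mem' := by
        intro a ha
        show ((a⁻¹ : GL ι F) : Matrix ι ι F)ᵀ * ((a⁻¹ : GL ι F) : Matrix ι ι F).map τ = 1
        have ha' : (a : Matrix ι ι F)ᵀ * (a : Matrix ι ι F).map τ = 1 := ha
        have h1 : (a : Matrix ι ι F) * ((a⁻¹ : GL ι F) : Matrix ι ι F) = 1 := by
          rw [← Units.val_mul, mul_inv_cancel]; rfl
        have h2 : ((a⁻¹ : GL ι F) : Matrix ι ι F)ᵀ * (a : Matrix ι ι F)ᵀ = 1 := by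
          rw [← transpose_mul, h1, transpose_one]
        have h3 : (a : Matrix ι ι F).map τ * ((a⁻¹ : GL ι F) : Matrix ι ι F).map τ = 1 := by
          rw [← Matrix.map_mul, h1, Matrix.map_one τ (map_zero τ) (map_one τ)]
        calc ((a⁻¹ : GL ι F) : Matrix ι ι F)ᵀ * ((a⁻¹ : GL ι F) : Matrix ι ι F).map τ
            = ((a⁻¹ : GL ι F) : Matrix ι ι F)ᵀ * ((a : Matrix ι ι F)ᵀ * (a : Matrix ι ι F).map τ) *
              ((a⁻¹ : GL ι F) : Matrix ι ι F).map τ := by rw [ha', Matrix.mul_one]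
          _ = (((a⁻¹ : GL ι F) : Matrix ι ι F)ᵀ * (a : Matrix ι ι F)ᵀ) * ((a : Matrix ι ι F).map τ *
              ((a⁻¹ : GL ι F) : Matrix ι ι F).map τ) := by simp only [Matrix.mul_assoc]
          _ = 1 := by rw [h2, h3, Matrix.one_mul] }
  blk := by
    intro ι _ _ a b
    show ((dg a b : GL (ι ⊕ ι) F) : Matrix (ι ⊕ ι) (ι ⊕ ι) F)ᵀ *
      ((dg a b : GL (ι ⊕ ι) F) : Matrix (ι ⊕ ι) (ι ⊕ ι) F).map τ = 1 ↔
      (a : Matrix ι ι F)ᵀ * (a : Matrix ι ι F).map τ = 1 ∧ (b : Matrix ι ι F)ᵀ * (b : Matrix ι ι F).map τ = 1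
    rw [dg_val, fromBlocks_transpose, fromBlocks_map, fromBlocks_multiply, ← fromBlocks_one, fromBlocks_inj]
    simp
  sw_mem := by
    intro ι _ _
    show ((sw : GL (ι ⊕ ι) F) : Matrix (ι ⊕ ι) (ι ⊕ ι) F)ᵀ *
      ((sw : GL (ι ⊕ ι) F) : Matrix (ι ⊕ ι) (ι ⊕ ι) F).map τ = 1
    rw [sw_val, fromBlocks_transpose, fromBlocks_map, fromBlocks_multiply, ← fromBlocks_one, fromBlocks_inj]
    simp

theorem mem_famU {τ : F →+* F} {ι : Type} [Fintype ι] [DecidableEq ι] {g : GL ι F} :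
    g ∈ (famU τ).L ι ↔ (g : Matrix ι ι F)ᵀ * (g : Matrix ι ι F).map τ = 1 := Iff.rfl

theorem neg_one_mem_famU (τ : F →+* F) (ι : Type) [Fintype ι] [DecidableEq ι] : (-1 : GL ι F) ∈ (famU τ).L ι := by
  rw [mem_famU, Units.val_neg, Units.val_one, transpose_neg, transpose_one]
  have h1 : (-1 : Matrix ι ι F).map τ = -1 := by
    ext i j
    show τ (-(1 : Matrix ι ι F) i j) = -(1 : Matrix ι ι F) i j
    rw [map_neg]
    by_cases hij : i = j
    · subst hij; rw [Matrix.one_apply_eq, map_one]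
    · rw [Matrix.one_apply_ne hij, map_zero]
  rw [h1, neg_mul_neg, Matrix.one_mul]

theorem good_GL [Finite F] (h2 : (2 : F) ≠ 0) : ∃ R : Subgroup (GL (Fin 2) F), Good famGL R := by
  obtain ⟨p, hp⟩ := CharP.exists F
  have : Fact p.Prime := ⟨CharP.char_is_prime F p⟩
  obtain ⟨a, b, hab⟩ := CharP.sq_add_sq F p (-1)
  have hab' : (a : F) ^ 2 + (b : F) ^ 2 = -1 := by simpa using hab
  have mkGL : ∀ x y : F, x ^ 2 + y ^ 2 ≠ 0 → ∃ g : GL (Fin 2) F, g = !![x, -y; y, x] := by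
    intro x y h
    refine ⟨Matrix.GeneralLinearGroup.mkOfDetNeZero !![x, -y; y, x] ?_, rfl⟩
    rw [Matrix.det_fin_two_of]
    intro h3
    apply h
    linear_combination h3
  refine ⟨_, BaseTwo.good famGL h2 (Subgroup.mem_top _) (Subgroup.mem_top _) ?_ ?_⟩
  · obtain ⟨g, hg⟩ := mkGL 1 1 (by
      intro h; apply h2; linear_combination h)
    exact ⟨g, Subgroup.mem_top _, 1, one_ne_zero, hg⟩
  · obtain ⟨g, hg⟩ := mkGL a b (by
      rw [hab']; exact neg_ne_zero.2 one_ne_zero)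
    exact ⟨g, Subgroup.mem_top _, a, b, hab', hg⟩

theorem good_U [Fintype F] {q : ℕ} (hF : Fintype.card F = q ^ 2) (h2 : (2 : F) ≠ 0) :
    ∃ R : Subgroup (GL (Fin 2) F), Good (famU (GUOrder.frob hF)) R := by
  obtain ⟨τ, hτ⟩ : ∃ τ : F →+* F, τ = GUOrder.frob hF := ⟨_, rfl⟩
  have hττ : ∀ x, τ (τ x) = x := fun x => by rw [hτ]; exact GUOrder.frob_frob hF x
  have hτa : ∀ x, τ x = x ^ q := fun x => by rw [hτ]; rfl
  rw [← hτ]
  -- a nontrivial element
  have hne : ∃ a : F, τ a ≠ a := by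
    by_contra hcon
    push Not at hcon
    have hq2 := GUOrder.two_le hF
    -- all elements are roots of `X ^ q - X`
    have h1 : ∀ u : Fˣ, u ^ (q - 1) = 1 := by
      intro u
      apply Units.ext
      rw [Units.val_pow_eq_pow_val, Units.val_one]
      have h3 := hcon u
      rw [hτa] at h3
      have h4 : (u : F) ^ (q - 1) * u = 1 * u := by
        rw [← pow_succ, Nat.sub_add_cancel (by omega), h3, one_mul]
      exact mul_right_cancel₀ u.ne_zero h4
    obtain ⟨g, hg⟩ := IsCyclic.exists_generator (α := Fˣ)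
    have hord : orderOf g = (q + 1) * (q - 1) := by
      rw [← HermBasic.card_units_eq hF]; exact orderOf_eq_card_of_forall_mem_zpowers hg
    have h5 := orderOf_dvd_of_pow_eq_one (h1 g)
    rw [hord] at h5
    have h6 := Nat.le_of_dvd (by omega) h5
    have h7 : 1 * (q - 1) < (q + 1) * (q - 1) := Nat.mul_lt_mul_of_pos_right (by omega) (by omega)
    omega
  -- λ with `τ λ = - λ`
  obtain ⟨l, hl0, hl⟩ : ∃ l : F, l ≠ 0 ∧ τ l = -l := by
    obtain ⟨a, ha⟩ := hne
    refine ⟨a - τ a, sub_ne_zero.2 ha.symm, ?_⟩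
    rw [map_sub, hττ, neg_sub]
  -- `i`
  obtain ⟨i, hi⟩ : ∃ i : F, i * i = -1 := by
    have hodd : ¬ 2 ∣ q := by
      intro h
      have h3 : (Fintype.card F : F) = 0 := by
        obtain ⟨p, hp⟩ := CharP.exists F
        obtain ⟨n, hpp, hn⟩ := FiniteField.card F p
        rw [hn, Nat.cast_pow, CharP.cast_eq_zero F p, zero_pow n.pos.ne']
      rw [hF] at h3
      obtain ⟨p, hp⟩ := CharP.exists F
      obtain ⟨n, hpp, hn⟩ := FiniteField.card F p
      have h4 : 2 ∣ p ^ (n : ℕ) := by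
        rw [← hn, hF]; exact dvd_pow h two_ne_zero
      have h5 := (Nat.prime_dvd_prime_iff_eq Nat.prime_two hpp).1 (Nat.prime_two.dvd_of_dvd_pow h4)
      subst h5
      apply h2
      exact CharP.cast_eq_zero F 2
    have h3 : IsSquare (-1 : F) := by
      rw [FiniteField.isSquare_neg_one_iff, hF]
      have h4 : q % 4 = 1 ∨ q % 4 = 3 := by omega
      rw [pow_two, Nat.mul_mod]
      rcases h4 with h4 | h4 <;> rw [h4] <;> decide
    obtain ⟨i, hi⟩ := h3
    exact ⟨i, hi.symm⟩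
  have hti : τ i = i ∨ τ i = -i := by
    have h3 : τ i * τ i = i * i := by rw [← map_mul, hi, map_neg, map_one]
    exact mul_self_eq_mul_self_iff.1 h3
  have mkU : ∀ x y : F, x ^ 2 + y ^ 2 ≠ 0 → x * τ x + y * τ y = 1 → x * τ y = y * τ x →
      ∃ g ∈ (famU τ).L (Fin 2), g = !![x, -y; y, x] := by
    intro x y h h3 h4
    refine ⟨Matrix.GeneralLinearGroup.mkOfDetNeZero !![x, -y; y, x] ?_, ?_, rfl⟩
    · rw [Matrix.det_fin_two_of]
      intro h3
      apply h
      linear_combination h3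
    · rw [mem_famU]
      show (!![x, -y; y, x])ᵀ * (!![x, -y; y, x]).map τ = 1
      ext a b
      fin_cases a <;> fin_cases b <;> simp [Matrix.mul_apply, Fin.sum_univ_two]
      · linear_combination h3
      · linear_combination -h4
      · linear_combination h4
      · linear_combination h3
  refine ⟨_, BaseTwo.good (famU τ) h2 ?_ ?_ ?_ ?_⟩
  · rw [mem_famU, BaseTwo.ph_val]
    ext a b
    fin_cases a <;> fin_cases b <;> simp [Matrix.mul_apply, Fin.sum_univ_two]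
  · rw [mem_famU, BaseTwo.J_val]
    ext a b
    fin_cases a <;> fin_cases b <;> simp [Matrix.mul_apply, Fin.sum_univ_two]
  · have h3 : τ (2⁻¹ : F) = 2⁻¹ := by rw [map_inv₀, map_ofNat]
    obtain ⟨s, hs0, hs⟩ := HermBasic.exists_norm_eq_ne hF (c := (2⁻¹ : F)) (by rw [← hτa, h3]) (inv_ne_zero h2)
    rw [← hτa] at hs
    have h4 : s * τ s + s * τ s = 1 := by
      rw [hs, ← two_mul, mul_inv_cancel₀ h2]
    obtain ⟨g, hg, hg'⟩ := mkU s s (by
      intro h
      have h5 : 2 * (s * s) = 0 := by linear_combination h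
      rcases mul_eq_zero.1 h5 with h6 | h6
      · exact h2 h6
      · exact hs0 (mul_self_eq_zero.1 h6)) h4 rfl
    exact ⟨g, hg, s, hs0, hg'⟩
  · rcases hti with h | h
    · -- `x = (λ - λ⁻¹)/2, y = i (λ + λ⁻¹)/2`
      obtain ⟨t, ht⟩ : ∃ t : F, 2 * t = 1 := ⟨2⁻¹, mul_inv_cancel₀ h2⟩
      obtain ⟨m, hm⟩ : ∃ m : F, l * m = 1 := ⟨l⁻¹, mul_inv_cancel₀ hl0⟩
      have htt : τ t = t := by
        have h5 : 2 * τ t = 1 := by
          rw [show (2 : F) = τ 2 by rw [map_ofNat], ← map_mul, ht, map_one]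
        exact mul_left_cancel₀ h2 (h5.trans ht.symm)
      have hmt : τ m = -m := by
        have h5 : l * (-τ m) = 1 := by
          rw [mul_neg, ← neg_mul, ← hl, ← map_mul, hm, map_one]
        exact neg_eq_iff_eq_neg.1 (mul_left_cancel₀ hl0 (h5.trans hm.symm))
      have hx : ((l - m) * t) ^ 2 + (i * (l + m) * t) ^ 2 = -1 := by
        linear_combination (t ^ 2 * (l + m) ^ 2) * hi - (4 * t ^ 2) * hm - (2 * t + 1) * ht
      have h7 : τ ((l - m) * t) = -((l - m) * t) := by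
        rw [map_mul, map_sub, hl, hmt, htt]; ring
      have h8 : τ (i * (l + m) * t) = -(i * (l + m) * t) := by
        rw [map_mul, map_mul, map_add, hl, hmt, htt, h]; ring
      obtain ⟨g, hg, hg'⟩ := mkU ((l - m) * t) (i * (l + m) * t) (by
        rw [hx]; exact neg_ne_zero.2 one_ne_zero) (by
        rw [h7, h8]; linear_combination -hx) (by
        rw [h7, h8]; ring)
      exact ⟨g, hg, _, _, hx, hg'⟩
    · have hx : i ^ 2 + (0 : F) ^ 2 = -1 := by linear_combination hi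
      obtain ⟨g, hg, hg'⟩ := mkU i 0 (by
        rw [hx]; exact neg_ne_zero.2 one_ne_zero) (by
        rw [h, map_zero]; linear_combination -hi) (by
        rw [map_zero]; ring)
      exact ⟨g, hg, _, _, hx, hg'⟩

theorem exists_self [Finite F] (h2 : (2 : F) ≠ 0) (𝓕 : Fam F)
    (hneg : ∀ (ι : Type) [Fintype ι] [DecidableEq ι], (-1 : GL ι F) ∈ 𝓕.L ι)
    {R : Subgroup (GL (Fin 2) F)} (hR : Good 𝓕 R) {w : ℕ} (hw : 2 ≤ w) :
    ∃ (κ : Type) (_ : Fintype κ) (_ : DecidableEq κ) (_ : Fin (2 ^ w) ≃ κ) (T : Subgroup (GL κ F)),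
      T ≤ sl (𝓕.L κ) ∧ (∀ t ∈ T, ∃ k : ℕ, t ^ 2 ^ k = 1) ∧
      ∀ x ∈ sl (𝓕.L κ), (∀ t ∈ T, x * t * x⁻¹ ∈ T) → x ∈ T := by
  obtain ⟨k, rfl⟩ : ∃ k, w = k + 2 := ⟨w - 2, by omega⟩
  obtain ⟨ι, _, _, _, R, hc, hG⟩ := exists_good h2 𝓕 hneg hR k
  have hc2 : Fintype.card (ι ⊕ ι) = 2 ^ (k + 2) := by
    rw [Fintype.card_sum, hc]; ring
  have hev : Even (Fintype.card ι) := by rw [hc, pow_succ]; exact even_two.mul_left _
  have hG' := hG.step h2 hev (hneg ι)
  refine ⟨ι ⊕ ι, inferInstance, inferInstance, Fintype.equivOfCardEq (by rw [hc2, Fintype.card_fin]), sl (wr R),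
    fun t ht => ⟨hG'.le ht.1, ht.2⟩, fun t ht => hG'.two t ht.1, fun x hx hxT => ?_⟩
  exact selfNorm h2 hev hG (hneg ι) hc2 hx hxT

theorem selfNorm_PSL [Finite F] (h2 : (2 : F) ≠ 0) {w : ℕ} (hw : 2 ≤ w)
    (S : Sylow 2 (ProjectiveSpecialLinearGroup (Fin (2 ^ w)) F)) :
    Subgroup.normalizer ((S : Subgroup (ProjectiveSpecialLinearGroup (Fin (2 ^ w)) F)) : Set (ProjectiveSpecialLinearGroup (Fin (2 ^ w)) F)) ≤
      (S : Subgroup (ProjectiveSpecialLinearGroup (Fin (2 ^ w)) F)) := by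
  obtain ⟨R, hR⟩ := good_GL h2
  obtain ⟨κ, _, _, e, T, hT1, hT2, hT3⟩ := exists_self h2 famGL (fun _ _ _ => Subgroup.mem_top _) hR hw
  refine SelfNorm.quot_of_hom (G := SpecialLinearGroup (Fin (2 ^ w)) F) (emb e) (emb_inj e) T ?_ hT2 ?_ S
  · intro t ht
    rw [mem_range_emb]
    exact (hT1 ht).2
  · intro x hx
    rw [mem_range_emb] at hx
    exact hT3 x ⟨Subgroup.mem_top _, hx⟩

theorem selfNorm_PSU [Fintype F] {q : ℕ} (hF : Fintype.card F = q ^ 2) (h2 : (2 : F) ≠ 0) {w : ℕ} (hw : 2 ≤ w)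
    (S : Sylow 2 (PSU (2 ^ w) F q)) :
    Subgroup.normalizer ((S : Subgroup (PSU (2 ^ w) F q)) : Set (PSU (2 ^ w) F q)) ≤ (S : Subgroup (PSU (2 ^ w) F q)) := by
  obtain ⟨R, hR⟩ := good_U hF h2
  obtain ⟨κ, _, _, e, T, hT1, hT2, hT3⟩ := exists_self h2 (famU (GUOrder.frob hF))
    (fun _ _ _ => neg_one_mem_famU _ _) hR hw
  have hr : ∀ g : SpecialLinearGroup (Fin (2 ^ w)) F, g ∈ SU (2 ^ w) F q ↔ emb e g ∈ (famU (GUOrder.frob hF)).L κ := by
    intro g
    have h1 : g ∈ SU (2 ^ w) F q ↔ (g : Matrix (Fin (2 ^ w)) (Fin (2 ^ w)) F)ᵀ *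
        (g : Matrix (Fin (2 ^ w)) (Fin (2 ^ w)) F).map (GUOrder.frob hF) = 1 :=
      GUOrder.mul_map_eq_one_iff hF _
    have h3 : (reindex e e (g : Matrix (Fin (2 ^ w)) (Fin (2 ^ w)) F))ᵀ *
        (reindex e e (g : Matrix (Fin (2 ^ w)) (Fin (2 ^ w)) F)).map (GUOrder.frob hF) =
        reindex e e ((g : Matrix (Fin (2 ^ w)) (Fin (2 ^ w)) F)ᵀ *
          (g : Matrix (Fin (2 ^ w)) (Fin (2 ^ w)) F).map (GUOrder.frob hF)) := by
      ext a b
      simp only [reindex_apply, Matrix.mul_apply, submatrix_apply, transpose_apply, Matrix.map_apply]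
      exact (Equiv.sum_comp e.symm (fun c => (g : Matrix (Fin (2 ^ w)) (Fin (2 ^ w)) F) c (e.symm a) *
        GUOrder.frob hF ((g : Matrix (Fin (2 ^ w)) (Fin (2 ^ w)) F) c (e.symm b))))
    rw [h1, mem_famU, emb_val, h3]
    constructor
    · intro h
      rw [h]
      exact submatrix_one_equiv _
    · intro h
      apply (reindex e e).injective
      rw [h]
      exact (submatrix_one_equiv _).symm
  refine SelfNorm.quot_of_hom (G := SU (2 ^ w) F q) ((emb e).comp (SU (2 ^ w) F q).subtype)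
    ((emb_inj e).comp (SU (2 ^ w) F q).subtype_injective) T ?_ hT2 ?_ S
  · intro t ht
    obtain ⟨g, hg⟩ := (mem_range_emb e t).2 (hT1 ht).2
    refine ⟨⟨g, (hr g).2 ?_⟩, hg⟩
    rw [hg]
    exact (hT1 ht).1
  · rintro x ⟨g, rfl⟩
    exact hT3 _ ⟨(hr g.1).1 g.2, (mem_range_emb e _).1 ⟨g.1, rfl⟩⟩

end Cfsg.Agent.H95.OddNorm
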