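import Mathlib
import Cfsg.Agent.OddOrderLocal.CyclicSub
import Cfsg.Agent.H94.Pronormal

/-!
# Sylow 2-subgroups of order four: generalities (helper95)

* `hom_trivial` : a group generated by elements of odd order has no homomorphism onto a nontrivial 2-group;
* `exists_hom` : a group with an abelian self-normalising Sylow 2-subgroup maps onto it;
* `dihedral_unique` : the overgroups, in a dihedral group, of a noncyclic subgroup are determined by their order.
-/

set_option autoImplicit false

namespace Cfsg.Agent.H95.KleinSyl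

open Subgroup

theorem hom_trivial {K Q : Type*} [Group K] [Group Q] (hQ : ∀ x : Q, ∃ k : ℕ, x ^ 2 ^ k = 1) (f : K →* Q) {s : Set K}
    (hs : closure s = ⊤) (hodd : ∀ x ∈ s, ∃ m : ℕ, Odd m ∧ x ^ m = 1) (x : K) : f x = 1 := by
  have h1 : closure s ≤ f.ker := by
    rw [closure_le]
    intro y hy
    rw [SetLike.mem_coe, MonoidHom.mem_ker]
    obtain ⟨m, hm, hym⟩ := hodd y hy
    obtain ⟨k, hk⟩ := hQ (f y)
    have h2 : (f y) ^ m = 1 := by rw [← map_pow, hym, map_one]
    have h3 : Nat.Coprime m (2 ^ k) := Nat.Coprime.pow_right _ (Nat.coprime_two_right.2 hm)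
    have h4 := orderOf_dvd_of_pow_eq_one h2
    have h5 := orderOf_dvd_of_pow_eq_one hk
    exact orderOf_eq_one_iff.1 (Nat.eq_one_of_dvd_coprimes h3 h4 h5)
  rw [hs] at h1
  exact h1 (mem_top x)

theorem exists_hom {G : Type*} [Group G] [Finite G] (P : Sylow 2 G) (hc : ∀ x ∈ P, ∀ y ∈ P, x * y = y * x)
    (hN : normalizer ((P : Subgroup G) : Set G) ≤ P) : ∃ f : G →* (P : Subgroup G), Function.Surjective f := by
  have hP : normalizer ((P : Subgroup G) : Set G) ≤ centralizer ((P : Subgroup G) : Set G) := by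
    intro x hx
    rw [mem_centralizer_iff]
    intro y hy
    exact hc y hy x (hN hx)
  refine ⟨MonoidHom.transferSylow P hP, ?_⟩
  have h1 := MonoidHom.ker_transferSylow_isComplement' P hP
  have h2 := h1.symm.index_eq_card
  rw [index_ker] at h2
  rw [← MonoidHom.range_eq_top]
  exact eq_top_of_card_eq _ h2

/-- the rotations -/
def rot (k : ℕ) : Subgroup (DihedralGroup k) := zpowers (DihedralGroup.r 1)

theorem mem_rot {k : ℕ} {x : DihedralGroup k} : x ∈ rot k ↔ ∃ i, x = DihedralGroup.r i := by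
  constructor
  · rintro ⟨j, rfl⟩
    exact ⟨j, DihedralGroup.r_one_zpow j⟩
  · rintro ⟨i, rfl⟩
    obtain ⟨j, rfl⟩ := ZMod.intCast_surjective i
    exact ⟨j, DihedralGroup.r_one_zpow j⟩

theorem eq_r_or_sr {k : ℕ} (x : DihedralGroup k) : (∃ i, x = DihedralGroup.r i) ∨ ∃ i, x = DihedralGroup.sr i := by
  cases x with
  | r i => exact Or.inl ⟨i, rfl⟩
  | sr i => exact Or.inr ⟨i, rfl⟩

theorem sr_not_mem_rot {k : ℕ} (i : ZMod k) : DihedralGroup.sr i ∉ rot k := by
  intro h
  obtain ⟨j, hj⟩ := mem_rot.1 h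
  cases hj

theorem index_rot (k : ℕ) : (rot k).index = 2 := by
  rw [index_eq_two_iff]
  refine ⟨DihedralGroup.sr 0, fun b => ?_⟩
  rcases eq_r_or_sr b with ⟨i, rfl⟩ | ⟨i, rfl⟩
  · rw [DihedralGroup.r_mul_sr]
    right
    exact ⟨mem_rot.2 ⟨i, rfl⟩, sr_not_mem_rot _⟩
  · rw [DihedralGroup.sr_mul_sr]
    left
    exact ⟨mem_rot.2 ⟨_, rfl⟩, sr_not_mem_rot _⟩

theorem card_inf_rot {k : ℕ} [Finite (DihedralGroup k)] {H : Subgroup (DihedralGroup k)} {i : ZMod k}
    (hi : DihedralGroup.sr i ∈ H) : Nat.card (H ⊓ rot k : Subgroup (DihedralGroup k)) * 2 = Nat.card H := by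
  have h1 : (rot k).relIndex H = 2 := by
    have h2 : (rot k).relIndex H ∣ 2 := by
      rw [← index_rot k]
      have : (rot k).Normal := normal_of_index_eq_two (index_rot k)
      exact relIndex_dvd_index_of_normal _ _
    rcases (Nat.dvd_prime Nat.prime_two).1 h2 with h3 | h3
    · rw [relIndex_eq_one] at h3
      exact absurd (h3 hi) (sr_not_mem_rot i)
    · exact h3
  have h4 : (H ⊓ rot k).relIndex H = 2 := by rw [inf_comm, inf_relIndex_right, h1]
  have h5 := card_mul_index ((H ⊓ rot k).subgroupOf H)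
  have h6 : Nat.card ((H ⊓ rot k).subgroupOf H) = Nat.card (H ⊓ rot k : Subgroup (DihedralGroup k)) :=
    Nat.card_congr (subgroupOfEquivOfLe inf_le_left).toEquiv
  rw [h6] at h5
  rw [← h4]
  exact h5

theorem dihedral_unique {k : ℕ} [Finite (DihedralGroup k)] {S H H' : Subgroup (DihedralGroup k)} (hS : ¬ IsCyclic S)
    (hH : S ≤ H) (hH' : S ≤ H') (hc : Nat.card H = Nat.card H') : H = H' := by
  have hrot : IsCyclic (rot k) := by unfold rot; infer_instance
  -- a reflection in `S`
  obtain ⟨i, hi⟩ : ∃ i, DihedralGroup.sr i ∈ S := by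
    by_contra hcon
    push Not at hcon
    apply hS
    have h1 : S ≤ rot k := by
      intro x hx
      rcases eq_r_or_sr x with ⟨j, rfl⟩ | ⟨j, rfl⟩
      · exact mem_rot.2 ⟨j, rfl⟩
      · exact absurd hx (hcon j)
    exact isCyclic_of_injective (inclusion h1) (inclusion_injective h1)
  have h1 := card_inf_rot (hH hi)
  have h2 := card_inf_rot (hH' hi)
  have h3 : H ⊓ rot k = H' ⊓ rot k := by
    refine OddOrderLocal.CyclicSub.eq_of_card_eq_of_le_cyclic hrot inf_le_right inf_le_right ?_
    omega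
  have key : ∀ A B : Subgroup (DihedralGroup k), DihedralGroup.sr i ∈ A → DihedralGroup.sr i ∈ B →
      A ⊓ rot k = B ⊓ rot k → A ≤ B := by
    intro A B hA hB hAB x hx
    rcases eq_r_or_sr x with ⟨j, rfl⟩ | ⟨j, rfl⟩
    · have : DihedralGroup.r j ∈ A ⊓ rot k := ⟨hx, mem_rot.2 ⟨j, rfl⟩⟩
      rw [hAB] at this
      exact this.1
    · have : DihedralGroup.sr j * DihedralGroup.sr i ∈ A ⊓ rot k :=
        ⟨mul_mem hx hA, by rw [DihedralGroup.sr_mul_sr]; exact mem_rot.2 ⟨_, rfl⟩⟩
      rw [hAB] at this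
      have h5 := mul_mem (show DihedralGroup.sr j * DihedralGroup.sr i ∈ B from this.1) (inv_mem hB)
      rwa [mul_inv_cancel_right] at h5
  exact le_antisymm (key H H' (hH hi) (hH' hi) h3) (key H' H (hH' hi) (hH hi) h3.symm)

theorem subgroup_unique {G : Type*} [Group G] [Finite G] {K S H H' : Subgroup G} {k : ℕ}
    (e : K ≃* DihedralGroup k) (hS : ¬ IsCyclic S) (hSH : S ≤ H) (hSH' : S ≤ H') (hH : H ≤ K) (hH' : H' ≤ K)
    (hc : Nat.card H = Nat.card H') : H = H' := by
  have : Finite (DihedralGroup k) := Finite.of_equiv _ e.toEquiv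
  have e1 : ∀ {A : Subgroup G} (_ : A ≤ K), Nat.card ((A.subgroupOf K).map e.toMonoidHom) = Nat.card A := by
    intro A hA
    rw [← Nat.card_congr ((A.subgroupOf K).equivMapOfInjective e.toMonoidHom e.injective).toEquiv]
    exact Nat.card_congr (subgroupOfEquivOfLe hA).toEquiv
  have h1 : ¬ IsCyclic ((S.subgroupOf K).map e.toMonoidHom) := by
    intro h
    apply hS
    have h2 : IsCyclic (S.subgroupOf K) :=
      isCyclic_of_injective ((S.subgroupOf K).equivMapOfInjective e.toMonoidHom e.injective).toMonoidHom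
        ((S.subgroupOf K).equivMapOfInjective e.toMonoidHom e.injective).injective
    exact isCyclic_of_injective (subgroupOfEquivOfLe (hSH.trans hH)).symm.toMonoidHom
      (subgroupOfEquivOfLe (hSH.trans hH)).symm.injective
  have h2 := dihedral_unique h1 (H := (H.subgroupOf K).map e.toMonoidHom) (H' := (H'.subgroupOf K).map e.toMonoidHom)
    (map_mono fun x hx => hSH hx) (map_mono fun x hx => hSH' hx) (by rw [e1 hH, e1 hH', hc])
  have h3 := map_injective e.injective h2
  have h4 := congrArg (fun A => A.map K.subtype) h3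
  simpa [subgroupOf_map_subtype, inf_eq_left.2 hH, inf_eq_left.2 hH'] using h4

/-- **Pronormality of the overgroups of a Sylow 2-subgroup of order four.** -/
theorem main {G : Type*} [Group G] [Finite G] (S : Sylow 2 G) (h4 : Nat.card S = 4)
    (hS : ¬ IsCyclic (S : Subgroup G)) (hN : Nat.card (normalizer ((S : Subgroup G) : Set G)) = 12)
    (hK : ∀ K : Subgroup G, (S : Subgroup G) ≤ K → IsCyclic K ∨ (∃ k, Nonempty (K ≃* DihedralGroup k)) ∨
      8 ∣ Nat.card K ∨ (∃ s : Set K, closure s = ⊤ ∧ ∀ x ∈ s, ∃ m : ℕ, Odd m ∧ x ^ m = 1))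
    (H : Subgroup G) (hSH : (S : Subgroup G) ≤ H) : Cfsg.IsPronormal H := by
  have h2p : Fact (Nat.Prime 2) := ⟨Nat.prime_two⟩
  refine H94.Pronormal.isPronormal_of_sylow S H hSH fun n hn => ?_
  obtain ⟨H', hH'⟩ : ∃ H' : Subgroup G, H' = H.map (MulAut.conj n).toMonoidHom := ⟨_, rfl⟩
  rw [← hH']
  have hSH' : (S : Subgroup G) ≤ H' := by
    intro x hx
    rw [hH']
    refine ⟨n⁻¹ * x * n, hSH ?_, by show n * (n⁻¹ * x * n) * n⁻¹ = x; group⟩
    have := (mem_normalizer_iff.1 (inv_mem hn) x).1 hx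
    rwa [inv_inv] at this
  have hcard : Nat.card H = Nat.card H' := by
    rw [hH']
    exact Nat.card_congr (H.equivMapOfInjective _ (MulAut.conj n).injective).toEquiv
  by_cases hnK : n ∈ H ⊔ H'
  · exact ⟨n, hnK, hH'⟩
  · -- `N_K(S) = S`
    obtain ⟨K, hKe⟩ : ∃ K : Subgroup G, K = H ⊔ H' := ⟨_, rfl⟩
    rw [← hKe] at hnK ⊢
    have hHK : H ≤ K := by rw [hKe]; exact le_sup_left
    have hH'K : H' ≤ K := by rw [hKe]; exact le_sup_right
    have hSK := hSH.trans hHK
    have hNK : normalizer ((S : Subgroup G) : Set G) ⊓ K ≤ S := by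
      have h1 : (S : Subgroup G) ≤ normalizer ((S : Subgroup G) : Set G) ⊓ K := le_inf le_normalizer hSK
      obtain ⟨N, hNe⟩ : ∃ N, N = normalizer ((S : Subgroup G) : Set G) := ⟨_, rfl⟩
      rw [← hNe] at h1 hn hN ⊢
      have h2 : Nat.card (N ⊓ K : Subgroup G) ∣ 12 := by rw [← hN]; exact card_dvd_of_le inf_le_left
      have h3 : 4 ∣ Nat.card (N ⊓ K : Subgroup G) := by rw [← h4]; exact card_dvd_of_le h1
      have h5 : Nat.card (N ⊓ K : Subgroup G) ≠ 12 := by
        intro h5
        apply hnK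
        have h6 : (N ⊓ K : Subgroup G) = N := eq_of_le_of_card_ge inf_le_left (by rw [h5, hN])
        have h7 : n ∈ N ⊓ K := by rw [h6]; exact hn
        exact h7.2
      have h6 : Nat.card (N ⊓ K : Subgroup G) = 4 := by
        obtain ⟨c, hc⟩ := h3
        rw [hc] at h2 h5 ⊢
        have h7 : c ∣ 3 := by
          have : 4 * c ∣ 4 * 3 := h2
          exact Nat.dvd_of_mul_dvd_mul_left (by norm_num) this
        rcases (Nat.dvd_prime Nat.prime_three).1 h7 with h8 | h8
        · rw [h8]
        · exact absurd (by rw [h8]) h5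
      exact (eq_of_le_of_card_ge h1 (by rw [h6]; exact h4.ge)).ge
    rcases hK K hSK with h | ⟨k, ⟨e⟩⟩ | h | ⟨s, hs, hodd⟩
    · exfalso
      apply hS
      exact isCyclic_of_injective (inclusion hSK) (inclusion_injective hSK)
    · refine ⟨1, one_mem _, ?_⟩
      rw [H94.Pronormal.map_conj_one]
      exact (subgroup_unique e hS hSH hSH' hHK hH'K hcard).symm
    · exfalso
      have h1 : 2 ^ 3 ∣ Nat.card S := S.pow_dvd_card_of_pow_dvd_card (h.trans (card_subgroup_dvd_card K))
      rw [h4] at h1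
      norm_num at h1
    · exfalso
      -- the Sylow subgroup of `K`
      obtain ⟨P, hP⟩ : ∃ P : Sylow 2 K, (P : Subgroup K) = (S : Subgroup G).subgroupOf K := ⟨S.subtype hSK, rfl⟩
      have h2 : ∀ x ∈ P, ∀ y ∈ P, x * y = y * x := by
        intro x hx y hy
        have hx' : (x : G) ∈ (S : Subgroup G) := by
          have : x ∈ (P : Subgroup K) := hx
          rw [hP] at this; exact this
        have hy' : (y : G) ∈ (S : Subgroup G) := by
          have : y ∈ (P : Subgroup K) := hy
          rw [hP] at this; exact this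
        have h3 : IsMulCommutative (S : Subgroup G) := by
          have : Nat.card (S : Subgroup G) = 2 ^ 2 := h4
          exact IsPGroup.isMulCommutative_of_card_eq_prime_sq this
        have h5 : (x : G) * y = y * x :=
          congrArg Subtype.val (h3.is_comm.comm (⟨x, hx'⟩ : (S : Subgroup G)) ⟨y, hy'⟩)
        exact Subtype.ext h5
      have h3 : normalizer ((P : Subgroup K) : Set K) ≤ P := by
        intro x hx
        rw [hP, mem_subgroupOf]
        apply hNK
        refine ⟨?_, x.2⟩
        show (x : G) ∈ normalizer ((S : Subgroup G) : Set G)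
        rw [mem_normalizer_iff]
        intro y
        have key : ∀ z : K, (z : G) ∈ (S : Subgroup G) ↔ (x * z * x⁻¹ : K).1 ∈ (S : Subgroup G) := by
          intro z
          have := mem_normalizer_iff.1 hx z
          rw [hP, mem_subgroupOf, mem_subgroupOf] at this
          exact this
        constructor
        · intro hy
          exact (key ⟨y, hSK hy⟩).1 hy
        · intro hy
          have hyK : y ∈ K := by
            have := mul_mem (mul_mem (inv_mem x.2) (hSK hy)) x.2
            have e : (x : G)⁻¹ * ((x : G) * y * (x : G)⁻¹) * x = y := by group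
            rwa [e] at this
          exact (key ⟨y, hyK⟩).2 hy
      obtain ⟨f, hf⟩ := exists_hom P h2 h3
      have h5 : ∀ x, f x = 1 := hom_trivial (fun x => P.isPGroup' x) f hs hodd
      have h6 : Nat.card (P : Subgroup K) = 4 := by
        rw [hP, ← h4]
        exact Nat.card_congr (subgroupOfEquivOfLe hSK).toEquiv
      have h7 : Subsingleton (P : Subgroup K) := by
        refine ⟨fun a b => ?_⟩
        obtain ⟨x, rfl⟩ := hf a
        obtain ⟨y, rfl⟩ := hf b
        rw [h5, h5]
      rw [Nat.card_eq_one_iff_unique.2 ⟨h7, ⟨1⟩⟩] at h6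
      norm_num at h6

end Cfsg.Agent.H95.KleinSyl
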