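import Mathlib
import Cfsg.Agent.S0799
import Cfsg.Agent.S2431
import Cfsg.Agent.ClassicalGeometry.PSL2Solvable
import Cfsg.Agent.ClassicalGeometry.PSL2Basic
import Cfsg.Agent.LieClassical.SLGen
import Cfsg.Agent.H95.KleinSyl

/-!
# Subgroups of odd index of `PSL_2(q)`, `q ≡ ±3 mod 8` (helper95)
-/

set_option autoImplicit false

namespace Cfsg.Agent.H95.PSLTwo

open Subgroup Matrix Cfsg.Agent.ClassicalGeometry.PSL2Basic Cfsg.Agent.ClassicalGeometry.PSL2Solvable
  Cfsg.Agent.LieClassical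

/-- groups generated by elements of odd order -/
def OddGen (K : Type*) [Group K] : Prop := ∃ s : Set K, closure s = ⊤ ∧ ∀ x ∈ s, ∃ m : ℕ, Odd m ∧ x ^ m = 1

theorem OddGen.map {K L : Type*} [Group K] [Group L] (h : OddGen K) (f : K →* L) (hf : Function.Surjective f) :
    OddGen L := by
  obtain ⟨s, hs, hodd⟩ := h
  refine ⟨f '' s, ?_, ?_⟩
  · rw [← MonoidHom.map_closure, hs, map_top_of_surjective f hf]
  · rintro _ ⟨x, hx, rfl⟩
    obtain ⟨m, hm, hxm⟩ := hodd x hx
    exact ⟨m, hm, by rw [← map_pow, hxm, map_one]⟩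

theorem oddGen_alt (n : ℕ) : OddGen (alternatingGroup (Fin n)) := by
  refine ⟨{x | (x : Equiv.Perm (Fin n)).IsThreeCycle}, ?_, ?_⟩
  · apply Subgroup.map_injective (alternatingGroup (Fin n)).subtype_injective
    rw [MonoidHom.map_closure, ← MonoidHom.range_eq_map, range_subtype]
    have h1 : (alternatingGroup (Fin n)).subtype '' {x | (x : Equiv.Perm (Fin n)).IsThreeCycle} =
        {σ : Equiv.Perm (Fin n) | σ.IsThreeCycle} := by
      ext σ
      constructor
      · rintro ⟨x, hx, rfl⟩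
        exact hx
      · intro hσ
        exact ⟨⟨σ, hσ.mem_alternatingGroup⟩, hσ, rfl⟩
    rw [h1]
    exact Equiv.Perm.closure_three_cycles_eq_alternating
  · intro x hx
    refine ⟨3, by decide, ?_⟩
    have h1 := Equiv.Perm.IsThreeCycle.orderOf hx
    apply Subtype.ext
    show (x : Equiv.Perm (Fin n)) ^ 3 = 1
    rw [← h1, pow_orderOf_eq_one]

theorem oddGen_psl {F : Type*} [Field F] [Fintype F] (hodd : Odd (Fintype.card F)) :
    OddGen (ProjectiveSpecialLinearGroup (Fin 2) F) := by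
  have h1 : OddGen (SpecialLinearGroup (Fin 2) F) := by
    refine ⟨SLGen.transvections (Fin 2) F, SLGen.closure_transvections, ?_⟩
    rintro _ ⟨i, j, hij, c, rfl⟩
    refine ⟨Fintype.card F, hodd, ?_⟩
    have key : ∀ n : ℕ, (SpecialLinearGroup.transvection hij c) ^ n =
        SpecialLinearGroup.transvection hij ((n : F) * c) := by
      intro n
      induction n with
      | zero =>
        apply Subtype.ext
        rw [pow_zero, Nat.cast_zero, zero_mul]
        show (1 : Matrix (Fin 2) (Fin 2) F) = Matrix.transvection i j 0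
        rw [Matrix.transvection_zero]
      | succ n ih =>
        rw [pow_succ, ih]
        apply Subtype.ext
        show Matrix.transvection i j ((n : F) * c) * Matrix.transvection i j c = Matrix.transvection i j _
        rw [Matrix.transvection_mul_transvection_same _ _ hij]
        congr 1
        push_cast
        ring
    rw [key, FiniteField.cast_card_eq_zero, zero_mul]
    apply Subtype.ext
    show Matrix.transvection i j (0 : F) = 1
    rw [Matrix.transvection_zero]
  exact h1.map (QuotientGroup.mk' _) (QuotientGroup.mk'_surjective _)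

/-- a noncyclic group of order four -/
theorem klein_elems {Q : Type*} [Group Q] (h4 : Nat.card Q = 4) (hc : ¬ IsCyclic Q) :
    (∀ x : Q, x * x = 1) ∧ ∃ a b : Q, a ≠ 1 ∧ b ≠ 1 ∧ a * b ≠ 1 := by
  have hfin : Finite Q := Nat.finite_of_card_ne_zero (by rw [h4]; norm_num)
  have h1 : ∀ x : Q, x * x = 1 := by
    intro x
    have h2 : orderOf x ∣ 2 ^ 2 := by
      have := orderOf_dvd_natCard x
      rw [h4] at this; exact this
    obtain ⟨k, hk, hk'⟩ := (Nat.dvd_prime_pow Nat.prime_two).1 h2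
    have h3 : k ≠ 2 := by
      rintro rfl
      exact hc (isCyclic_of_orderOf_eq_card x (by rw [hk', h4]; norm_num))
    have h5 : orderOf x ∣ 2 := by
      rw [hk']
      exact pow_dvd_pow 2 (show k ≤ 1 by omega) |>.trans (by norm_num)
    rw [← pow_two]
    exact orderOf_dvd_iff_pow_eq_one.1 h5
  refine ⟨h1, ?_⟩
  classical
  have := Fintype.ofFinite Q
  rw [Nat.card_eq_fintype_card] at h4
  obtain ⟨a, ha⟩ : ∃ a : Q, a ∉ ({1} : Finset Q) := by
    by_contra hcon
    push Not at hcon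
    have h5 : (Finset.univ : Finset Q) ⊆ {1} := fun x _ => hcon x
    have := Finset.card_le_card h5
    rw [Finset.card_univ, h4, Finset.card_singleton] at this
    omega
  obtain ⟨b, hb⟩ : ∃ b : Q, b ∉ ({1, a} : Finset Q) := by
    by_contra hcon
    push Not at hcon
    have h5 : (Finset.univ : Finset Q) ⊆ {1, a} := fun x _ => hcon x
    have := (Finset.card_le_card h5).trans Finset.card_le_two
    rw [Finset.card_univ, h4] at this
    omega
  rw [Finset.mem_singleton] at ha
  rw [Finset.mem_insert, Finset.mem_singleton, not_or] at hb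
  refine ⟨a, b, ha, hb.1, fun h => hb.2 ?_⟩
  have h6 : a * b = a * a := by rw [h, h1]
  exact mul_left_cancel h6

section

variable {F : Type*} [Field F]

local notation "SL2F" => SpecialLinearGroup (Fin 2) F

theorem ext4 {a b : SpecialLinearGroup (Fin 2) F} (h00 : a 0 0 = b 0 0) (h01 : a 0 1 = b 0 1) (h10 : a 1 0 = b 1 0)
    (h11 : a 1 1 = b 1 1) : a = b := by
  ext i j
  fin_cases i <;> fin_cases j
  · exact h00
  · exact h01
  · exact h10
  · exact h11

theorem mul4 (a b : SpecialLinearGroup (Fin 2) F) (i j : Fin 2) : (a * b) i j = a i 0 * b 0 j + a i 1 * b 1 j := by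
  show (a.1 * b.1) i j = _
  rw [Matrix.mul_apply, Fin.sum_univ_two]

theorem det4 (a : SpecialLinearGroup (Fin 2) F) : a 0 0 * a 1 1 - a 0 1 * a 1 0 = 1 := by
  have := a.2
  rw [Matrix.det_fin_two] at this
  exact this

/-- the entries of an upper triangular matrix which is an involution modulo `±1` -/
theorem borel_inv {a : SpecialLinearGroup (Fin 2) F} (ha : a 1 0 = 0)
    (haa : a * a ∈ center (SpecialLinearGroup (Fin 2) F)) (hac : a ∉ center (SpecialLinearGroup (Fin 2) F)) :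
    a 0 0 * a 0 0 = -1 ∧ a 1 1 = -a 0 0 := by
  have hd := det4 a
  rw [ha, mul_zero, sub_zero] at hd
  have e01 : (a * a) 0 1 = a 0 1 * (a 0 0 + a 1 1) := by rw [mul4]; ring
  have e00 : (a * a) 0 0 = a 0 0 * a 0 0 := by rw [mul4, ha]; ring
  have hne : a 0 0 ≠ 0 := by
    intro h
    rw [h, zero_mul] at hd
    exact zero_ne_one hd
  rw [mem_center_SL2_iff] at haa hac
  have h01 : (a * a) 0 1 = 0 := by
    rcases haa with h | h <;> rw [h]
    · simp
    · simp [SpecialLinearGroup.coe_neg]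
  rw [e01] at h01
  have h00 : (a 0 0 - a 1 1) * (a 0 0 + a 1 1) = 0 ∧ (a 0 0 * a 0 0 = 1 ∨ a 0 0 * a 0 0 = -1) := by
    have e11 : (a * a) 1 1 = a 1 1 * a 1 1 := by rw [mul4, ha]; ring
    rcases haa with h | h
    · rw [h] at e00 e11
      have e00' : a 0 0 * a 0 0 = 1 := by rw [← e00]; simp
      have e11' : a 1 1 * a 1 1 = 1 := by rw [← e11]; simp
      exact ⟨by linear_combination e00' - e11', Or.inl e00'⟩
    · rw [h] at e00 e11
      have e00' : a 0 0 * a 0 0 = -1 := by rw [← e00]; simp [SpecialLinearGroup.coe_neg]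
      have e11' : a 1 1 * a 1 1 = -1 := by rw [← e11]; simp [SpecialLinearGroup.coe_neg]
      exact ⟨by linear_combination e00' - e11', Or.inr e00'⟩
  rcases h00 with ⟨h3, h4⟩
  by_cases hs : a 0 0 + a 1 1 = 0
  · refine ⟨?_, by linear_combination hs⟩
    linear_combination (a 0 0) * hs - hd
  · exfalso
    have h5 : a 0 1 = 0 := (mul_eq_zero.1 h01).resolve_right hs
    have h6 : a 0 0 = a 1 1 := sub_eq_zero.1 ((mul_eq_zero.1 h3).resolve_right hs)
    rw [← h6] at hd
    apply hac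
    have h7 : (a 0 0 - 1) * (a 0 0 + 1) = 0 := by linear_combination hd
    rcases mul_eq_zero.1 h7 with h8 | h8
    · left
      have h9 : a 0 0 = 1 := sub_eq_zero.1 h8
      exact ext4 (by rw [h9]; simp) (by rw [h5]; simp) (by rw [ha]; simp) (by rw [← h6, h9]; simp)
    · right
      have h9 : a 0 0 = -1 := eq_neg_of_add_eq_zero_left h8
      exact ext4 (by rw [h9]; simp [SpecialLinearGroup.coe_neg]) (by rw [h5]; simp [SpecialLinearGroup.coe_neg])
        (by rw [ha]; simp [SpecialLinearGroup.coe_neg]) (by rw [← h6, h9]; simp [SpecialLinearGroup.coe_neg])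

/-- **no four-group in the image of the Borel subgroup** -/
theorem no_klein (h2 : (2 : F) ≠ 0) {a b : SpecialLinearGroup (Fin 2) F} (ha : a 1 0 = 0) (hb : b 1 0 = 0)
    (haa : a * a ∈ center (SpecialLinearGroup (Fin 2) F)) (hac : a ∉ center (SpecialLinearGroup (Fin 2) F))
    (hbb : b * b ∈ center (SpecialLinearGroup (Fin 2) F)) (hbc : b ∉ center (SpecialLinearGroup (Fin 2) F))
    (hab : a * b * (a * b) ∈ center (SpecialLinearGroup (Fin 2) F))
    (habc : a * b ∉ center (SpecialLinearGroup (Fin 2) F)) : False := by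
  obtain ⟨ha1, ha2⟩ := borel_inv ha haa hac
  obtain ⟨hb1, hb2⟩ := borel_inv hb hbb hbc
  have h10 : (a * b) 1 0 = 0 := by rw [mul4, ha, hb]; ring
  obtain ⟨hc1, hc2⟩ := borel_inv h10 hab habc
  have e00 : (a * b) 0 0 = a 0 0 * b 0 0 := by rw [mul4, hb]; ring
  rw [e00] at hc1
  have h3 : (1 : F) = -1 := by
    calc (1 : F) = (a 0 0 * a 0 0) * (b 0 0 * b 0 0) := by rw [ha1, hb1]; ring
      _ = (a 0 0 * b 0 0) * (a 0 0 * b 0 0) := by ring
      _ = -1 := hc1
  apply h2
  linear_combination h3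

local notation "PSL2F" => ProjectiveSpecialLinearGroup (Fin 2) F

variable [Fintype F]

theorem isCyclic_of_le_normalizer (h2 : (2 : F) ≠ 0) (p : ℕ) [Fact p.Prime] [CharP F p]
    (P : Sylow p (ProjectiveSpecialLinearGroup (Fin 2) F)) (Q : Subgroup (ProjectiveSpecialLinearGroup (Fin 2) F))
    (hQ : Q ≤ normalizer ((P : Subgroup (ProjectiveSpecialLinearGroup (Fin 2) F)) :
      Set (ProjectiveSpecialLinearGroup (Fin 2) F))) (h4 : Nat.card Q = 4) : IsCyclic Q := by
  by_contra hc
  obtain ⟨hsq, a, b, ha, hb, hab⟩ := klein_elems h4 hc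
  obtain ⟨g, hg⟩ := exists_le_map_borel p P
  have key : ∀ x : Q, ∃ y : SpecialLinearGroup (Fin 2) F, y 1 0 = 0 ∧
      g * (QuotientGroup.mk' (center (SpecialLinearGroup (Fin 2) F)) y) * g⁻¹ = x := by
    intro x
    obtain ⟨z, ⟨y, hy, rfl⟩, hz⟩ := hg (hQ x.2)
    exact ⟨y, mem_borel_iff.1 hy, hz⟩
  obtain ⟨a', ha0, ha'⟩ := key a
  obtain ⟨b', hb0, hb'⟩ := key b
  have hone : ∀ y : SpecialLinearGroup (Fin 2) F,
      g * (QuotientGroup.mk' (center (SpecialLinearGroup (Fin 2) F)) y) * g⁻¹ = 1 ↔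
        y ∈ center (SpecialLinearGroup (Fin 2) F) := by
    intro y
    rw [mul_inv_eq_one, mul_eq_left]
    exact QuotientGroup.eq_one_iff y
  have hmul : ∀ y z : SpecialLinearGroup (Fin 2) F,
      g * (QuotientGroup.mk' (center (SpecialLinearGroup (Fin 2) F)) (y * z)) * g⁻¹ =
      (g * (QuotientGroup.mk' (center (SpecialLinearGroup (Fin 2) F)) y) * g⁻¹) *
      (g * (QuotientGroup.mk' (center (SpecialLinearGroup (Fin 2) F)) z) * g⁻¹) := by
    intro y z
    rw [map_mul]; group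
  have e : ∀ x : Q, x = 1 ↔ (x : ProjectiveSpecialLinearGroup (Fin 2) F) = 1 := fun x => by
    rw [Subtype.ext_iff]; rfl
  refine no_klein h2 ha0 hb0 ?_ ?_ ?_ ?_ ?_ ?_
  · rw [← hone, hmul, ha']
    exact (e _).1 (hsq a)
  · rw [← hone, ha']
    exact fun h => ha ((e _).2 h)
  · rw [← hone, hmul, hb']
    exact (e _).1 (hsq b)
  · rw [← hone, hb']
    exact fun h => hb ((e _).2 h)
  · rw [← hone, hmul, hmul, ha', hb']
    exact (e _).1 (hsq (a * b))
  · rw [← hone, hmul, ha', hb']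
    exact fun h => hab ((e _).2 h)

theorem card_arith {q : ℕ} (hq : q % 8 = 3 ∨ q % 8 = 5) : ∃ m, Odd m ∧ q * (q ^ 2 - 1) = 8 * m := by
  have hq' : ∃ t, q = 8 * t + 3 ∨ q = 8 * t + 5 := ⟨q / 8, by omega⟩
  obtain ⟨t, ht | ht⟩ := hq'
  · refine ⟨q * (8 * t ^ 2 + 6 * t + 1), ?_, ?_⟩
    · refine Odd.mul (Nat.odd_iff.2 (by omega)) ?_
      exact ⟨4 * t ^ 2 + 3 * t, by ring⟩
    · have h1 : q ^ 2 - 1 = 8 * (8 * t ^ 2 + 6 * t + 1) := by
        have : q ^ 2 = 8 * (8 * t ^ 2 + 6 * t + 1) + 1 := by rw [ht]; ring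
        omega
      rw [h1]; ring
  · refine ⟨q * (8 * t ^ 2 + 10 * t + 3), ?_, ?_⟩
    · refine Odd.mul (Nat.odd_iff.2 (by omega)) ?_
      exact ⟨4 * t ^ 2 + 5 * t + 1, by ring⟩
    · have h1 : q ^ 2 - 1 = 8 * (8 * t ^ 2 + 10 * t + 3) := by
        have : q ^ 2 = 8 * (8 * t ^ 2 + 10 * t + 3) + 1 := by rw [ht]; ring
        omega
      rw [h1]; ring

omit [Field F] in
theorem odd_of (hq : Fintype.card F % 8 = 3 ∨ Fintype.card F % 8 = 5) : Odd (Fintype.card F) :=
  Nat.odd_iff.2 (by omega)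

theorem card_psl (hq : Fintype.card F % 8 = 3 ∨ Fintype.card F % 8 = 5) :
    ∃ m, Odd m ∧ Nat.card (ProjectiveSpecialLinearGroup (Fin 2) F) = 4 * m := by
  obtain ⟨m, hm, h⟩ := card_arith hq
  refine ⟨m, hm, ?_⟩
  have h1 := card_PSL2_odd F (odd_of hq)
  omega

theorem not_eight_dvd (hq : Fintype.card F % 8 = 3 ∨ Fintype.card F % 8 = 5) :
    ¬ 8 ∣ Nat.card (ProjectiveSpecialLinearGroup (Fin 2) F) := by
  obtain ⟨m, hm, h⟩ := card_psl hq
  rw [h]
  obtain ⟨k, rfl⟩ := hm
  omega

theorem card_syl (hq : Fintype.card F % 8 = 3 ∨ Fintype.card F % 8 = 5)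
    (S : Sylow 2 (ProjectiveSpecialLinearGroup (Fin 2) F)) :
    Nat.card (S : Subgroup (ProjectiveSpecialLinearGroup (Fin 2) F)) = 4 := by
  have h2p : Fact (Nat.Prime 2) := ⟨Nat.prime_two⟩
  obtain ⟨m, hm, h⟩ := card_psl hq
  have h4 : 2 ^ 2 ∣ Nat.card (S : Subgroup (ProjectiveSpecialLinearGroup (Fin 2) F)) :=
    S.pow_dvd_card_of_pow_dvd_card ⟨m, h⟩
  obtain ⟨k, hk⟩ := S.isPGroup'.exists_card_eq
  have hk2 : k < 3 := by
    by_contra hcon
    apply not_eight_dvd hq
    have h5 : 2 ^ 3 ∣ Nat.card (S : Subgroup (ProjectiveSpecialLinearGroup (Fin 2) F)) := by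
      rw [hk]; exact pow_dvd_pow 2 (by omega)
    exact h5.trans (card_subgroup_dvd_card _)
  have hk3 : 2 ≤ k := by
    rw [hk] at h4
    exact (Nat.pow_dvd_pow_iff_le_right (by norm_num)).1 h4
  have : k = 2 := by omega
  rw [hk, this]; norm_num

theorem not_cyclic (hq : Fintype.card F % 8 = 3 ∨ Fintype.card F % 8 = 5)
    (S : Sylow 2 (ProjectiveSpecialLinearGroup (Fin 2) F)) :
    ¬ IsCyclic (S : Subgroup (ProjectiveSpecialLinearGroup (Fin 2) F)) := by
  have h2p : Fact (Nat.Prime 2) := ⟨Nat.prime_two⟩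
  intro hc
  have h4 := card_syl hq S
  have hfac : (Nat.card (ProjectiveSpecialLinearGroup (Fin 2) F)).minFac = 2 := by
    rw [Nat.minFac_eq_two_iff]
    obtain ⟨m, hm, h⟩ := card_psl hq
    exact ⟨2 * m, by rw [h]; ring⟩
  have h1 := IsCyclic.normalizer_le_centralizer hfac hc
  have h2 := MonoidHom.ker_transferSylow_isComplement' S h1
  have h3 := h2.symm.index_eq_card
  rw [index_ker] at h3
  obtain ⟨s, hs, hodd⟩ := oddGen_psl (odd_of hq)
  have h5 : ∀ x, MonoidHom.transferSylow S h1 x = 1 :=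
    KleinSyl.hom_trivial (fun x => S.isPGroup' x) _ hs hodd
  have h6 : (MonoidHom.transferSylow S h1).range = ⊥ := by
    rw [eq_bot_iff]
    rintro _ ⟨x, rfl⟩
    rw [h5]; exact one_mem _
  rw [h6, card_bot, h4] at h3
  norm_num at h3

theorem card_normalizer (hq : Fintype.card F % 8 = 3 ∨ Fintype.card F % 8 = 5)
    (S : Sylow 2 (ProjectiveSpecialLinearGroup (Fin 2) F)) :
    Nat.card (normalizer ((S : Subgroup (ProjectiveSpecialLinearGroup (Fin 2) F)) :
      Set (ProjectiveSpecialLinearGroup (Fin 2) F))) = 12 := by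
  have h2p : Fact (Nat.Prime 2) := ⟨Nat.prime_two⟩
  have hπ := QuotientGroup.mk'_surjective (center (SpecialLinearGroup (Fin 2) F))
  have hZc : Nat.card (center (SpecialLinearGroup (Fin 2) F)) = 2 :=
    card_center_SL2_odd ((two_ne_zero_iff_odd F).2 (odd_of hq))
  -- the full preimage is a Sylow subgroup
  have hT : IsPGroup 2 ((S : Subgroup (ProjectiveSpecialLinearGroup (Fin 2) F)).comap
      (QuotientGroup.mk' (center (SpecialLinearGroup (Fin 2) F)))) := by
    refine IsPGroup.comap_of_ker_isPGroup S.isPGroup' _ ?_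
    rw [QuotientGroup.ker_mk']
    exact IsPGroup.of_card (n := 1) (by rw [hZc, pow_one])
  have hidx : ¬ 2 ∣ ((S : Subgroup (ProjectiveSpecialLinearGroup (Fin 2) F)).comap
      (QuotientGroup.mk' (center (SpecialLinearGroup (Fin 2) F)))).index := by
    rw [index_comap_of_surjective _ hπ]
    exact S.not_dvd_index
  have h1 := ((S2431.result (odd_of hq) (hT.toSylow hidx)).2.2 hq)
  have e : ((hT.toSylow hidx : Sylow 2 (SpecialLinearGroup (Fin 2) F)) : Subgroup (SpecialLinearGroup (Fin 2) F)) =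
    (S : Subgroup (ProjectiveSpecialLinearGroup (Fin 2) F)).comap
      (QuotientGroup.mk' (center (SpecialLinearGroup (Fin 2) F))) := rfl
  rw [e, ← comap_normalizer_eq_of_surjective _ hπ] at h1
  have h3 : ∀ A : Subgroup (ProjectiveSpecialLinearGroup (Fin 2) F),
      Nat.card (A.comap (QuotientGroup.mk' (center (SpecialLinearGroup (Fin 2) F)))) = 2 * Nat.card A := by
    intro A
    have h4 := card_mul_index (A.comap (QuotientGroup.mk' (center (SpecialLinearGroup (Fin 2) F))))
    rw [index_comap_of_surjective _ hπ, card_eq_card_quotient_mul_card_subgroup (center (SpecialLinearGroup (Fin 2) F)),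
      hZc] at h4
    have h5 := card_mul_index A
    have h6 : 0 < A.index := Nat.pos_of_ne_zero index_ne_zero_of_finite
    have h7 : Nat.card (A.comap (QuotientGroup.mk' (center (SpecialLinearGroup (Fin 2) F)))) * A.index =
        (2 * Nat.card A) * A.index := by
      rw [h4]
      have h8 : Nat.card (SpecialLinearGroup (Fin 2) F ⧸ center (SpecialLinearGroup (Fin 2) F)) =
        Nat.card A * A.index := h5.symm
      rw [h8]; ring
    exact Nat.eq_of_mul_eq_mul_right h6 h7
  have h4 : Nat.card ((hT.toSylow hidx : Sylow 2 (SpecialLinearGroup (Fin 2) F)) :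
      Subgroup (SpecialLinearGroup (Fin 2) F)) = 2 * 4 := by
    rw [e, h3, card_syl hq S]
  have h5 : 2 * Nat.card (normalizer ((S : Subgroup (ProjectiveSpecialLinearGroup (Fin 2) F)) :
      Set (ProjectiveSpecialLinearGroup (Fin 2) F))) = 3 * (2 * 4) := by
    rw [← h3, ← h4]
    exact h1
  omega

/-- **Pronormality, `q ≡ ±3 mod 8`.** -/
theorem isPronormal (hq : Fintype.card F % 8 = 3 ∨ Fintype.card F % 8 = 5)
    (H : Subgroup (ProjectiveSpecialLinearGroup (Fin 2) F)) (hH : ¬ 2 ∣ H.index) : Cfsg.IsPronormal H := by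
  have h2p : Fact (Nat.Prime 2) := ⟨Nat.prime_two⟩
  have hodd := odd_of hq
  have h2 : (2 : F) ≠ 0 := (two_ne_zero_iff_odd F).2 hodd
  obtain ⟨S, hS⟩ := H94.Pronormal.exists_sylow_le H hH
  have h4 := card_syl hq S
  have hnc := not_cyclic hq S
  refine KleinSyl.main S h4 hnc (card_normalizer hq S) (fun K hSK => ?_) H hS
  obtain ⟨p, hp⟩ := CharP.exists F
  have hpp : Fact p.Prime := ⟨CharP.char_is_prime F p⟩
  have hpow : ∀ (K' : Type) [Field K'] [Fintype K'] (m : ℕ), Fintype.card K' ^ m = Fintype.card F →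
      Odd (Fintype.card K') := by
    intro K' _ _ m hm
    rw [← hm] at hodd
    rcases Nat.eq_zero_or_pos m with rfl | h0
    · rw [pow_zero] at hm
      have := Fintype.one_lt_card (α := F)
      omega
    · rw [Nat.odd_pow_iff h0.ne'] at hodd
      exact hodd
  rcases S0799.result (F := F) rfl p K with
    ⟨k, -, ⟨hc, -⟩ | ⟨⟨e⟩⟩⟩ | ⟨P, K₁, hK₁, ⟨e⟩⟩ | ⟨⟨e⟩⟩ | ⟨⟨e⟩⟩ | ⟨⟨e⟩⟩ | ⟨K', _, _, m, hm, ⟨⟨e⟩⟩ | ⟨⟨e⟩⟩⟩
  · exact Or.inl hc
  · exact Or.inr (Or.inl ⟨k, ⟨e⟩⟩)
  · exfalso
    apply hnc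
    -- the image of `S` in `K₁`
    obtain ⟨f, hf⟩ : ∃ f : (S : Subgroup (ProjectiveSpecialLinearGroup (Fin 2) F)) →*
        ProjectiveSpecialLinearGroup (Fin 2) F, f = K₁.subtype.comp (e.toMonoidHom.comp (inclusion hSK)) := ⟨_, rfl⟩
    have hinj : Function.Injective f := by
      rw [hf]
      exact K₁.subtype_injective.comp (e.injective.comp (inclusion_injective hSK))
    have h5 : IsCyclic f.range := by
      refine isCyclic_of_le_normalizer h2 p P f.range ?_ ?_
      · refine le_trans ?_ hK₁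
        rintro _ ⟨x, rfl⟩
        rw [hf]
        exact (e (inclusion hSK x)).2
      · rw [← Nat.card_congr (MonoidHom.ofInjective hinj).toEquiv]
        exact h4
    exact isCyclic_of_injective (MonoidHom.ofInjective hinj).toMonoidHom (MonoidHom.ofInjective hinj).injective
  · exact Or.inr (Or.inr (Or.inr ((oddGen_alt 4).map e.symm.toMonoidHom e.symm.surjective)))
  · refine Or.inr (Or.inr (Or.inl ?_))
    rw [Nat.card_congr e.toEquiv, Nat.card_perm, Nat.card_eq_fintype_card, Fintype.card_fin]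
    decide
  · exact Or.inr (Or.inr (Or.inr ((oddGen_alt 5).map e.symm.toMonoidHom e.symm.surjective)))
  · exact Or.inr (Or.inr (Or.inr ((oddGen_psl (hpow K' m hm)).map e.symm.toMonoidHom e.symm.surjective)))
  · refine Or.inr (Or.inr (Or.inl ?_))
    rw [Nat.card_congr e.toEquiv, card_PGL2]
    apply Dvd.dvd.mul_left
    obtain ⟨t, ht⟩ := hpow K' m hm
    have h5 : Fintype.card K' ^ 2 - 1 = 4 * (t * (t + 1)) := by
      have : Fintype.card K' ^ 2 = 4 * (t * (t + 1)) + 1 := by rw [ht]; ring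
      omega
    rw [h5]
    obtain ⟨u, hu⟩ := Nat.even_mul_succ_self t
    exact ⟨u, by rw [hu]; ring⟩

end

end Cfsg.Agent.H95.PSLTwo
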