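import Mathlib
import Cfsg.Agent.Nodes.WittInst
import Cfsg.Agent.H95.EvenRGD

/-!
# Subgroups of `PSU_{2m}(q)` of index prime to the characteristic are pronormal (helper95)
-/

set_option autoImplicit false

namespace Cfsg.Agent.H95.EvenPSU

open Cfsg
open Cfsg.Agent.ChevalleyStructure.CoxeterGeom Cfsg.Agent.Tits.Roots
open Cfsg.Agent.Nodes.Comb Cfsg.Agent.Nodes.Reps Cfsg.Agent.Nodes.WittRoot Cfsg.Agent.Nodes.BNOf
open Cfsg.Agent.Nodes.RGDLib Cfsg.Agent.Nodes.WittAll Cfsg.Agent.Nodes.WittU Cfsg.Agent.Nodes.RGDChev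
open Cfsg.Agent.TitsThree Cfsg.Agent.TitsThree.Siegel Cfsg.Agent.TitsThree.SiegelGen
  Cfsg.Agent.TitsThree.WittFrame Cfsg.Agent.TitsThree.WBridge Cfsg.Agent.TitsThree.WittWeyl
  Cfsg.Agent.TitsThree.FrameCN
open Cfsg.Agent.Nodes

theorem comm_of_span {F V : Type*} [Field F] [AddCommGroup V] [Module F V] {K : HForm F V} {P : PQ K} {m : ℕ}
    (W : WFrame P m) (hW : W.V0 = ⊥) {a b : V ≃ₗ[F] V} (ha : Mono (toFrame W) a id) (hb : Mono (toFrame W) b id) :
    a * b = b * a := by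
  have key : ∀ x, a (b ((toFrame W).b x)) = b (a ((toFrame W).b x)) := by
    intro x
    obtain ⟨k, -, hk⟩ := ha x
    obtain ⟨l, -, hl⟩ := hb x
    rw [id] at hk hl
    rw [hl, map_smul, hk, map_smul, hl, smul_smul, smul_smul, mul_comm]
  have keye : ∀ i, a (b (W.e i)) = b (a (W.e i)) := fun i => key (i, true)
  have keyf : ∀ i, a (b (W.f i)) = b (a (W.f i)) := fun i => key (i, false)
  refine LinearEquiv.ext fun v => ?_
  show a (b v) = b (a v)
  obtain ⟨c, d, w, hw, rfl⟩ := W.span v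
  rw [hW, Submodule.mem_bot] at hw
  simp only [hw, add_zero, map_add, map_sum, map_smul, keye, keyf]

theorem isPronormal {F : Type*} [Field F] [Fintype F] {q m : ℕ} (hF : Fintype.card F = q ^ 2) (hm : 2 ≤ m) {p : ℕ}
    [Fact p.Prime] [CharP F p] (H : Subgroup (PSU (2 * m) F q)) (hH : ¬ p ∣ H.index) : Cfsg.IsPronormal H := by
  obtain ⟨W, hW⟩ := KSideU.exists_wframe_even hF (N := 2 * m) (m := m) rfl
  obtain ⟨p0, hp0, -⟩ := exists_adm hF W
  have hA := AmbT.of_amb (amb_U hF W) p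
  have hfin : Finite (CoxeterMatrix.B m).Group := TypeC.finite_W (CoxeterMatrix.B m).toCoxeterSystem
  have R := rgdC_model (KInstU.model hF (by omega) W) hA hp0 (CoxeterMatrix.B m).toCoxeterSystem
  refine EvenRGD.isPronormal R (eq_top_iff.2 ?_) ?_ H hH
  · have hG := WittModel.G1_eq_top (KInstU.model hF (by omega) W) (n := m) (by omega) (CoxeterMatrix.B m).toCoxeterSystem
    rw [← hG]
    exact le_sup_right
  · rintro _ ⟨a, ha, rfl⟩ _ ⟨b, hb, rfl⟩
    rw [← map_mul, ← map_mul]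
    congr 1
    apply Subtype.ext
    have ha' : Mono (toFrame W) a.1 id := ((WittRGD.mem_Tor _ _).1 ha).2
    have hb' : Mono (toFrame W) b.1 id := ((WittRGD.mem_Tor _ _).1 hb).2
    exact comm_of_span W hW ha' hb'

end Cfsg.Agent.H95.EvenPSU
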